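import Cfsg.Agent.InvolFixFour.Frame

/-!
The case where the fixed element centralises the cyclic part of the dihedral group.
-/

set_option autoImplicit false
set_option linter.unusedSectionVars false
set_option linter.style.haveILetI false

namespace CfsgLib.InvolFixFour

open Subgroup

variable {G : Type*} [Group G] [Finite G] {A : Subgroup G} {t : G}

namespace Frame

variable {P : Subgroup G} {x i : G} (F : Frame A t P x i)
include F

theorem alpha {e : G} (he : e = 1 ∨ e = x * x) (hxi : x * i * x⁻¹ = i * e)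
    (hxg : x * F.g * x⁻¹ = F.g) : False := by
  have ht := F.tt
  haveI := F.B.cfg.normal
  set z := x * x with hz
  have hzz : z * z = 1 := F.B.zz
  set q : ℤ := ((orderOf F.g / 4 : ℕ) : ℤ)
  have hz2q : F.g ^ (2 * q) = z := F.z_eq
  set g1 := F.g ^ q with hg1
  have hg11 : g1 * g1 = z := by rw [hg1, ← zpow_add, ← two_mul, hz2q]
  have hxgz : ∀ m : ℤ, Commute x (F.g ^ m) := fun m => by
    refine Commute.zpow_right ?_ m
    exact mul_inv_eq_iff_eq_mul.1 hxg
  have hg1i : g1⁻¹ = g1 * z := inv_eq_of_mul_eq_one_right (by rw [← mul_assoc, hg11, hzz])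
  set u := x * g1 with hu
  have huu : u * u = 1 := by
    rw [hu, (hxgz q).symm.mul_mul_mul_comm, hg11, hzz]
  have hui : u⁻¹ = u := inv_eq_of_mul_eq_one_right huu
  have huP : u ∈ P := mul_mem F.B.hx (zpow_mem F.g_mem q)
  have hzc : ∀ p ∈ P, Commute z p := fun p hp => F.B.z_central hp
  have hcu : cj t u = u * z := by
    rw [hu, cj_mul ht, F.B.hxt, F.cj_gz, zpow_neg, ← hg1, hg1i, mul_assoc]
  have hug : ∀ m : ℤ, Commute u (F.g ^ m) := fun m =>
    (hxgz m).mul_left ((Commute.refl F.g).zpow_zpow q m)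
  have hez : e * z = 1 ∨ e * z = z := by
    rcases he with rfl | rfl
    · exact Or.inr (one_mul z)
    · exact Or.inl hzz
  have heP : e * z ∈ P := by
    rcases hez with h | h <;> rw [h]
    exacts [one_mem P, F.B.z_mem]
  have huiu : u * i * u = i * (e * z) := by
    calc u * i * u = u * i * u⁻¹ := by rw [hui]
      _ = x * (g1 * i * g1⁻¹) * x⁻¹ := by rw [hu]; group
      _ = x * (i * z) * x⁻¹ := by
          rw [hg1, F.g_i, ← zpow_neg, mul_assoc i, ← zpow_add,
            show -q + -q = -(2 * q) by ring, zpow_neg, hz2q, F.B.z_inv]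
      _ = i * (e * z) := by
          rw [← conj_mul, hxi, (hzc x F.B.hx).symm.eq, mul_inv_cancel_right, mul_assoc]
  have hu_norm : ∀ d ∈ F.D, u * d * u⁻¹ ∈ F.D := by
    rintro d ⟨m, rfl | rfl⟩
    · rw [(hug m).eq, mul_inv_cancel_right]; exact F.mem_g m
    · rw [← conj_mul, (hug m).eq, mul_inv_cancel_right, hui, huiu]
      refine mul_mem (mul_mem (by simpa using F.mem_ig 0) ?_) (F.mem_g m)
      rcases hez with h | h <;> rw [h]
      exacts [one_mem _, hz2q ▸ F.mem_g _]
  set E0 := ext F.D u (huu ▸ one_mem _) hu_norm with hE0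
  have hforms : ∀ p ∈ E0, ∃ m : ℤ,
      p = F.g ^ m ∨ p = i * F.g ^ m ∨ p = u * F.g ^ m ∨ p = u * (i * F.g ^ m) := by
    rintro p (⟨m, h | h⟩ | ⟨m, h | h⟩)
    · exact ⟨m, Or.inl h⟩
    · exact ⟨m, Or.inr (Or.inl h)⟩
    · exact ⟨m, Or.inr (Or.inr (Or.inl (by rw [← h, ← mul_assoc, huu, one_mul])))⟩
    · exact ⟨m, Or.inr (Or.inr (Or.inr (by rw [← h, ← mul_assoc, huu, one_mul])))⟩
  have hmemu : ∀ {d : G}, d ∈ F.D → u * d ∈ E0 := fun hd =>
    Or.inr (by rwa [← mul_assoc, huu, one_mul])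
  have hE0P : E0 ≤ P := by
    intro p hp
    obtain ⟨m, rfl | rfl | rfl | rfl⟩ := hforms p hp
    exacts [zpow_mem F.g_mem m, mul_mem F.hi (zpow_mem F.g_mem m),
      mul_mem huP (zpow_mem F.g_mem m), mul_mem huP (mul_mem F.hi (zpow_mem F.g_mem m))]
  have hE0inv : ∀ r ∈ E0, cj t r ∈ E0 := by
    intro r hr
    obtain ⟨m, rfl | rfl | rfl | rfl⟩ := hforms r hr
    · exact Or.inl (F.D_inv _ (F.mem_g m))
    · exact Or.inl (F.D_inv _ (F.mem_ig m))
    · rw [cj_mul ht, hcu, mul_assoc]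
      exact hmemu (mul_mem (hz2q ▸ F.mem_g _) (F.D_inv _ (F.mem_g m)))
    · rw [cj_mul ht, hcu, mul_assoc]
      exact hmemu (mul_mem (hz2q ▸ F.mem_g _) (F.D_inv _ (F.mem_ig m)))
  have hprod : ∀ m : ℤ, u * (i * F.g ^ m) * (u * (i * F.g ^ m)) = e * z := by
    intro m
    rw [show u * (i * F.g ^ m) * (u * (i * F.g ^ m)) = u * i * (F.g ^ m * u) * (i * F.g ^ m) by
      group, (hug m).symm.eq, ← mul_assoc (u * i) u, huiu, mul_assoc i (e * z),
      (show Commute (e * z) (F.g ^ m) from ?_).eq, ← mul_assoc i, mul_assoc (i * F.g ^ m),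
      ← mul_assoc (i * F.g ^ m), (show Commute (i * F.g ^ m) (e * z) from ?_).eq, mul_assoc,
      F.ig_sq, mul_one]
    · rcases hez with h | h <;> rw [h]
      exacts [Commute.one_right _, (hzc _ (mul_mem F.hi (zpow_mem F.g_mem m))).symm]
    · rcases hez with h | h <;> rw [h]
      exacts [Commute.one_left _, hzc _ (zpow_mem F.g_mem m)]
  have hPeq : E0 = P := by
    refine eq_of_lift ht F.B.two hE0P F.B.inv hE0inv (fun p hp hc => ?_) ?_
    · have hxE : x ∈ E0 := by
        have hh : x = u * F.g ^ (-q) := by rw [hu, zpow_neg, ← hg1, mul_inv_cancel_right]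
        rw [hh]; exact hmemu (F.mem_g _)
      rcases F.B.fix_mem hp hc with rfl | rfl | rfl | rfl
      exacts [one_mem _, hxE, mul_mem hxE hxE, inv_mem hxE]
    · intro p _ d hd hdd _
      obtain ⟨m, rfl | rfl | rfl | rfl⟩ := hforms d hd
      · obtain ⟨e', he', he''⟩ := F.sol_g m
        exact ⟨e', Or.inl he', he''⟩
      · exact absurd hdd (F.ig_not_inverted m)
      · exfalso
        rw [cj_mul ht, hcu, F.cj_gz] at hdd
        have hzg : Commute (F.g ^ (-m)) u := (hug (-m)).symm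
        have : z = 1 := by
          calc z = u * z * F.g ^ (-m) * (u * F.g ^ m) := by
                rw [mul_assoc (u * z), ← mul_assoc (F.g ^ (-m)), hzg.eq, mul_assoc u (F.g ^ (-m)),
                  ← zpow_add, neg_add_cancel, zpow_zero, mul_one, mul_assoc,
                  (hzc u huP).eq, ← mul_assoc, huu, one_mul]
            _ = 1 := hdd
        exact F.B.z_ne this
      · exfalso
        rw [cj_mul ht, hcu, F.cj_igz] at hdd
        have hsplit : i * F.g ^ m = i * F.g ^ (1 - m) * F.g ^ (2 * m - 1) := by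
          rw [mul_assoc, ← zpow_add, show 1 - m + (2 * m - 1) = m by ring]
        have h1 : F.g ^ (2 * m - 1) = z ∨ F.g ^ (2 * m - 1) = 1 := by
          have h2 : z * (e * z) * F.g ^ (2 * m - 1) = 1 := by
            calc z * (e * z) * F.g ^ (2 * m - 1)
                = z * (u * (i * F.g ^ (1 - m)) * (u * (i * F.g ^ (1 - m)))) * F.g ^ (2 * m - 1) := by
                  rw [hprod]
              _ = u * z * (i * F.g ^ (1 - m)) * (u * (i * F.g ^ m)) := by
                  rw [(hzc u huP).symm.eq]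
                  conv_rhs => rw [hsplit]
                  group
              _ = 1 := hdd
          rcases hez with h | h
          · rw [h, mul_one] at h2
            exact Or.inl ((eq_inv_of_mul_eq_one_right h2).trans F.B.z_inv)
          · rw [h, hzz, one_mul] at h2
            exact Or.inr h2
        rw [show 2 * m - 1 = 2 * (m - 1) + 1 by ring] at h1
        rcases h1 with h | h
        exacts [F.odd_ne_z _ h, F.odd_ne_one _ h]
  have hPforms : ∀ p ∈ P, ∃ m : ℤ,
      p = F.g ^ m ∨ p = i * F.g ^ m ∨ p = u * F.g ^ m ∨ p = u * (i * F.g ^ m) :=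
    fun p hp => hforms p (hPeq.symm ▸ hp)
  have hu_sq : ∀ m : ℤ, u * F.g ^ m * (u * F.g ^ m) = F.g ^ m * F.g ^ m := fun m => by
    rw [(hug m).symm.mul_mul_mul_comm, huu, one_mul]
  have huniq : ∀ p ∈ P, p * p * (p * p) = 1 → p * p ≠ 1 → p * p = x * x := by
    intro p hp h4 h2
    obtain ⟨m, rfl | rfl | rfl | rfl⟩ := hPforms p hp
    · rw [← zpow_add] at h4 h2 ⊢; exact (F.sq_one h4).resolve_left h2
    · exact absurd (F.ig_sq m) h2
    · rw [hu_sq, ← zpow_add] at h4 h2 ⊢; exact (F.sq_one h4).resolve_left h2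
    · rw [hprod] at h2 ⊢; exact hez.resolve_left h2
  have hg1P : g1 ∈ P := zpow_mem F.g_mem q
  have huz : u ≠ z := fun h => F.B.z_ne (by
    have hc := hcu; rw [h, F.B.cj_z, hzz] at hc; exact hc)
  have hnfu : ¬ Fused A z u := F.B.not_fused_z huniq hg1P hg11 (hug q).symm huz
  have hnfuz : ¬ Fused A z (u * z) := fun h => hnfu (by
    have := Fused.map_cj ht h
    rwa [F.B.cj_z, cj_mul ht, hcu, F.B.cj_z, mul_assoc, hzz, mul_one] at this)
  have hu1 : u ≠ 1 := fun h => F.B.z_ne (by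
    have hc := hcu; rw [h, cj_one ht, one_mul] at hc; exact hc.symm)
  have hunotD : u ∉ F.D := fun h => by
    obtain ⟨m, hm | hm⟩ := h
    · rcases F.sq_one (m := m) (by rw [← hm, huu]) with h' | h'
      exacts [hu1 (hm.trans h'), huz (hm.trans h')]
    · have hc : i * F.g ^ (1 - m) = i * F.g ^ m * z := by rw [← hm, ← hcu, hm, F.cj_igz]
      rw [mul_assoc, mul_right_inj, ← hz2q, ← zpow_add] at hc
      refine F.odd_ne_one (-m - q) ?_
      rw [show 2 * (-m - q) + 1 = (1 - m) - (m + 2 * q) by ring, zpow_sub, hc, mul_inv_cancel]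
  -- a maximal subgroup `⟨g⟩⟨v⟩`
  have key : ∀ v ∈ P, ∀ hv2 : v * v ∈ zpowers F.g, ∀ hvn : ∀ h ∈ zpowers F.g, v * h * v⁻¹ ∈ zpowers F.g,
      (∀ p ∈ P, p ∈ ext (zpowers F.g) v hv2 hvn ∨ u * p ∈ ext (zpowers F.g) v hv2 hvn) →
      u ∉ ext (zpowers F.g) v hv2 hvn →
      ∃ m : ℤ, Fused A u (F.g ^ m) ∧ F.g ^ m * F.g ^ m = 1 ∨
        Fused A u (v⁻¹ * F.g ^ m) ∧ v⁻¹ * F.g ^ m * (v⁻¹ * F.g ^ m) = 1 := by
    intro v hv hv2 hvn hcov hnot
    by_contra hno
    push Not at hno
    have hQP : ext (zpowers F.g) v hv2 hvn ≤ P := by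
      rintro p (hp | hp)
      · exact zpowers_le.2 F.g_mem hp
      · have := mul_mem (inv_mem hv) (zpowers_le.2 F.g_mem hp)
        rwa [inv_mul_cancel_left] at this
    refine F.B.transfer_contra hQP (relIndex_two huP hnot hcov) huP huu fun n hn hmem => ?_
    have hsq : n * u * n⁻¹ * (n * u * n⁻¹) = 1 := by rw [conj_mul, huu, mul_one, mul_inv_cancel]
    rcases hmem with hm | hm
    · obtain ⟨m, hm⟩ := mem_zpowers_iff.1 hm
      refine (hno m).1 ⟨n, hn, hm.symm⟩ ?_
      rw [hm]; exact hsq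
    · obtain ⟨m, hm⟩ := mem_zpowers_iff.1 hm
      have h : v⁻¹ * F.g ^ m = n * u * n⁻¹ := by rw [hm, inv_mul_cancel_left]
      refine (hno m).2 ⟨n, hn, h.symm⟩ ?_
      rw [h]; exact hsq
  have hgm : ∀ m : ℤ, Fused A u (F.g ^ m) → F.g ^ m * F.g ^ m = 1 → False := by
    intro m hf hsq
    rcases F.sq_one hsq with h | h
    · obtain ⟨n, -, hn⟩ := hf
      exact hu1 (conj_eq_one_iff.1 (hn.trans h))
    · exact hnfu (h ▸ hf).symm
  rcases hez with h' | h'
  swap
  · -- a generalised quaternion maximal subgroup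
    have he1 : e = 1 := by
      rcases he with h | h
      · exact h
      · rw [h, hzz] at h'; exact absurd h'.symm F.B.z_ne
    rw [he1, mul_one] at hxi
    have hix : Commute i x := (mul_inv_eq_iff_eq_mul.1 hxi).symm
    have hv2 : i * x * (i * x) ∈ zpowers F.g := by
      rw [hix.symm.mul_mul_mul_comm, F.hii, one_mul]; exact ⟨_, hz2q⟩
    have hvn : ∀ h ∈ zpowers F.g, i * x * h * (i * x)⁻¹ ∈ zpowers F.g := by
      rintro h ⟨m, rfl⟩
      refine ⟨-m, ?_⟩
      show F.g ^ (-m) = _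
      rw [← F.conj_g, show i * x * F.g ^ m * (i * x)⁻¹ = i * (x * F.g ^ m * x⁻¹) * i⁻¹ by group,
        (hxgz m).eq, mul_inv_cancel_right]
    have hxu : x = u * F.g ^ (-q) := by rw [hu, zpow_neg, ← hg1, mul_inv_cancel_right]
    have hxu2 : x * u = F.g ^ (-q) := by
      calc x * u = u * F.g ^ (-q) * u := by rw [← hxu]
        _ = F.g ^ (-q) := by rw [(hug (-q)).eq, mul_assoc, huu, mul_one]
    have hxv : ∀ m : ℤ, (i * x) * (u * (i * F.g ^ m)) ∈ zpowers F.g := fun m => by
      refine ⟨-q + m + 2 * q, ?_⟩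
      show F.g ^ (-q + m + 2 * q) = _
      rw [zpow_add, hz2q, hix.eq]
      have h1 : u * i = i * u * z := by
        have := huiu
        rw [h'] at this
        calc u * i = u * i * u * u := by rw [mul_assoc (u * i), huu, mul_one]
          _ = i * (z * u) := by rw [this, mul_assoc]
          _ = i * u * z := by rw [(hzc u huP).eq, ← mul_assoc]
      rw [← mul_assoc u i, h1]
      have hzg : Commute z (F.g ^ m) := hzc _ (zpow_mem F.g_mem m)
      rw [show x * i * (i * u * z * F.g ^ m) = x * (i * i) * u * (z * F.g ^ m) by group, F.hii,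
        mul_one, hzg.eq, hxu2, zpow_add, mul_assoc]
    obtain ⟨m, ⟨hf, hsq⟩ | ⟨hf, hsq⟩⟩ := key (i * x) (mul_mem F.hi F.B.hx) hv2 hvn (by
        intro p hp
        obtain ⟨m, rfl | rfl | rfl | rfl⟩ := hPforms p hp
        · exact Or.inl (Or.inl (zpow_mem (mem_zpowers _) m))
        · exact Or.inr (Or.inr (hxv m))
        · exact Or.inr (Or.inl (by rw [← mul_assoc, huu, one_mul]; exact zpow_mem (mem_zpowers _) m))
        · exact Or.inl (Or.inr (hxv m)))
      (by
        rintro (⟨m, hm⟩ | ⟨m, hm⟩)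
        · exact hunotD ⟨m, Or.inl hm.symm⟩
        · have h1 : u = (i * x)⁻¹ * F.g ^ m := by
            show u = _
            rw [show F.g ^ m = i * x * u from hm, inv_mul_cancel_left]
          have h2 : (i * x) * (i * x) = z := by rw [hix.symm.mul_mul_mul_comm, F.hii, one_mul]
          have h3 : i * x * F.g ^ m * (i * x)⁻¹ = F.g ^ (-m) := by
            rw [← F.conj_g, show i * x * F.g ^ m * (i * x)⁻¹ = i * (x * F.g ^ m * x⁻¹) * i⁻¹ by group,
              (hxgz m).eq, mul_inv_cancel_right]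
          have h4 : u * u = z := by
            rw [h1]
            calc (i * x)⁻¹ * F.g ^ m * ((i * x)⁻¹ * F.g ^ m)
                = (i * x * (i * x))⁻¹ * (i * x * F.g ^ m * (i * x)⁻¹) * F.g ^ m := by group
              _ = z := by
                  rw [h2, h3, F.B.z_inv, mul_assoc, ← zpow_add, neg_add_cancel, zpow_zero, mul_one]
          exact F.B.z_ne (h4.symm.trans huu))
    · exact hgm m hf hsq
    · have h2 : (i * x) * (i * x) = z := by rw [hix.symm.mul_mul_mul_comm, F.hii, one_mul]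
      have h3 : i * x * F.g ^ m * (i * x)⁻¹ = F.g ^ (-m) := by
        rw [← F.conj_g, show i * x * F.g ^ m * (i * x)⁻¹ = i * (x * F.g ^ m * x⁻¹) * i⁻¹ by group,
          (hxgz m).eq, mul_inv_cancel_right]
      refine F.B.z_ne ?_
      rw [← hsq]
      calc z = (i * x * (i * x))⁻¹ * (i * x * F.g ^ m * (i * x)⁻¹) * F.g ^ m := by
            rw [h2, h3, F.B.z_inv, mul_assoc, ← zpow_add, neg_add_cancel, zpow_zero, mul_one]
        _ = _ := by group
  -- `u` is central
  rw [h', mul_one] at huiu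
  have hui' : Commute u i := by
    calc u * i = u * i * u * u := by rw [mul_assoc (u * i), huu, mul_one]
      _ = i * u := by rw [huiu]
  have huc : ∀ p ∈ P, Commute u p := by
    intro p hp
    obtain ⟨m, rfl | rfl | rfl | rfl⟩ := hPforms p hp
    exacts [hug m, hui'.mul_right (hug m), (Commute.refl u).mul_right (hug m),
      (Commute.refl u).mul_right (hui'.mul_right (hug m))]
  have hnfuu : ¬ Fused A u (u * z) := by
    intro h
    obtain ⟨n, hn, hnu, hnP⟩ := F.B.fused_normalizer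
      (fun p hp => (huc p hp).mul_left (hzc p hp)) huc h
    have hnz : n * z * n⁻¹ = z := by
      have hh : n * g1 * n⁻¹ * (n * g1 * n⁻¹) = n * z * n⁻¹ := by rw [conj_mul, hg11]
      have h4 : n * g1 * n⁻¹ * (n * g1 * n⁻¹) * (n * g1 * n⁻¹ * (n * g1 * n⁻¹)) = 1 := by
        rw [hh, conj_mul, hzz, mul_one, mul_inv_cancel]
      have h2 : n * g1 * n⁻¹ * (n * g1 * n⁻¹) ≠ 1 :=
        fun h => F.B.z_ne (conj_eq_one_iff.1 (hh.symm.trans h))
      exact hh.symm.trans (huniq _ (hnP g1 hg1P) h4 h2)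
    refine F.B.no_swap huc (fun h => F.B.z_ne (left_eq_mul.1 h)) hn hnP hnu ?_
    rw [← conj_mul, hnu, hnz, mul_assoc, hzz, mul_one]
  -- fusion inside the two sets of reflections
  have hrefl : ∀ v : G, v ∈ P → (∀ m : ℤ, v * F.g ^ m * v⁻¹ = F.g ^ (-m)) →
      ∀ c : ℤ, (∀ m : ℤ, cj t (v * F.g ^ m) = v * F.g ^ (2 * c + 1 - m)) →
      ∀ {y : G} (m l : ℤ), Fused A z y → y = v * F.g ^ m → Fused A z (v * F.g ^ l) := by
    intro v hv hinvert c hcj y m l hy hym
    subst hym
    have hP : ∀ m' j : ℤ, Fused A (v * F.g ^ m') (v * F.g ^ (m' - 2 * j)) := fun m' j =>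
      ⟨F.g ^ j, F.B.le (zpow_mem F.g_mem j), by
        have : v * F.g ^ (-j) = F.g ^ j * v := by
          rw [mul_inv_eq_iff_eq_mul.1 (hinvert (-j)), neg_neg]
        rw [← mul_assoc (F.g ^ j), ← this, ← zpow_neg, mul_assoc (v * F.g ^ (-j)), ← zpow_add,
          mul_assoc, ← zpow_add]
        congr 2; ring⟩
    rcases Int.even_or_odd' (m - l) with ⟨j, hj | hj⟩
    · have := hy.trans (hP m j)
      rwa [show m - 2 * j = l by omega] at this
    · have h2 := Fused.map_cj ht hy
      rw [F.B.cj_z, hcj] at h2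
      have := h2.trans (hP (2 * c + 1 - m) (c - m + (m - l - 1 - 2 * j) + (m - l - j)))
      rwa [show 2 * c + 1 - m - 2 * (c - m + (m - l - 1 - 2 * j) + (m - l - j)) = l by omega] at this
  have hDrefl : ∀ {y : G} (m l : ℤ), Fused A z y → y = i * F.g ^ m → Fused A z (i * F.g ^ l) :=
    hrefl i F.hi F.conj_g 0 (fun m => by rw [F.cj_igz]; congr 2)
  have hinv' : ∀ m : ℤ, i * u * F.g ^ m * (i * u)⁻¹ = F.g ^ (-m) := fun m => by
    rw [show i * u * F.g ^ m * (i * u)⁻¹ = i * (u * F.g ^ m * u⁻¹) * i⁻¹ by group, (hug m).eq,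
      mul_inv_cancel_right, F.conj_g]
  have hcj' : ∀ m : ℤ, cj t (i * u * F.g ^ m) = i * u * F.g ^ (2 * q + 1 - m) := fun m => by
    rw [cj_mul ht, cj_mul ht, F.cj_i, hcu, F.cj_gz, ← hz2q,
      show i * F.g * (u * F.g ^ (2 * q)) * F.g ^ (-m) =
        i * (F.g * u) * (F.g ^ (2 * q) * F.g ^ (-m)) by group,
      show F.g * u = u * F.g by simpa using (hug 1).symm.eq, ← zpow_add,
      show i * (u * F.g) * F.g ^ (2 * q + -m) = i * u * (F.g * F.g ^ (2 * q + -m)) by group,
      ← zpow_one_add]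
    congr 2; ring
  have hErefl : ∀ {y : G} (m l : ℤ), Fused A z y → y = i * u * F.g ^ m →
      Fused A z (i * u * F.g ^ l) :=
    hrefl (i * u) (mul_mem F.hi huP) hinv' q hcj'
  -- `u` is fused to a reflection
  have hi2 : i * i ∈ zpowers F.g := by rw [F.hii]; exact one_mem _
  have hin : ∀ h ∈ zpowers F.g, i * h * i⁻¹ ∈ zpowers F.g := by
    rintro h ⟨m, rfl⟩; exact ⟨-m, (F.conj_g m).symm⟩
  obtain ⟨m0, ⟨hf, hsq⟩ | ⟨hf, -⟩⟩ := key i F.hi hi2 hin (by
      intro p hp
      have hig : ∀ m : ℤ, i * (i * F.g ^ m) ∈ zpowers F.g := fun m => by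
        rw [← mul_assoc, F.hii, one_mul]; exact zpow_mem (mem_zpowers _) m
      obtain ⟨m, rfl | rfl | rfl | rfl⟩ := hPforms p hp
      · exact Or.inl (Or.inl (zpow_mem (mem_zpowers _) m))
      · exact Or.inl (Or.inr (hig m))
      · exact Or.inr (Or.inl (by rw [← mul_assoc, huu, one_mul]; exact zpow_mem (mem_zpowers _) m))
      · exact Or.inr (Or.inr (by rw [← mul_assoc u u, huu, one_mul]; exact hig m)))
    (by
      rintro (⟨m, hm⟩ | ⟨m, hm⟩)
      · exact hunotD ⟨m, Or.inl hm.symm⟩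
      · exact hunotD ⟨m, Or.inr (by rw [show F.g ^ m = i * u from hm, ← mul_assoc, F.hii, one_mul])⟩)
  · exact hgm m0 hf hsq
  rw [F.i_inv] at hf
  set s := i * F.g ^ m0 with hs
  obtain ⟨n, hn, hns⟩ := hf.symm
  have hsP : s ∈ P := mul_mem F.hi (zpow_mem F.g_mem m0)
  have hnz2 : n * z * n⁻¹ * (n * z * n⁻¹) = 1 := by rw [conj_mul, hzz, mul_one, mul_inv_cancel]
  obtain ⟨n', hn', hn'u, hn'R⟩ := F.B.into_of_central huc (R := zpowers (n * z * n⁻¹))
    (fun ⟨r, hr⟩ => by
      obtain ⟨j, rfl⟩ := mem_zpowers_iff.1 hr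
      refine ⟨1, Subtype.ext ?_⟩
      show ((n * z * n⁻¹) ^ j) ^ 2 ^ 1 = 1
      rw [pow_one, ← zpow_natCast, zpow_comm, zpow_natCast, sq, hnz2, one_zpow])
    (zpowers_le.2 (mul_mem (mul_mem hn (F.B.le F.B.z_mem)) (inv_mem hn)))
    (by
      rintro r ⟨j, rfl⟩
      refine Commute.zpow_right ?_ j
      rw [← hns]
      exact ((hzc s hsP).symm.conj n))
  set w := n' * (n * z * n⁻¹) * n'⁻¹ with hw
  have hwP : w ∈ P := hn'R _ (mem_zpowers _)
  have hww : w * w = 1 := by rw [hw, conj_mul, hnz2, mul_one, mul_inv_cancel]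
  have hzw : Fused A z w := ⟨n' * n, mul_mem hn' hn, by rw [hw]; group⟩
  have huw : Fused A u (u * w) := by
    have hsz : Fused A s (s * z) := ⟨g1, F.B.le hg1P, by
      rw [hs, hg1, ← mul_assoc, F.g_i, mul_assoc i, ← zpow_add, mul_assoc, ← zpow_neg, ← zpow_add,
        mul_assoc i, ← hz2q, ← zpow_add, mul_right_inj,
        show -q + m0 + -q = m0 + 2 * q + -(4 * q) by ring, zpow_add _ (m0 + 2 * q) (-(4 * q)),
        zpow_neg, show 4 * q = 2 * q + 2 * q by ring, zpow_add _ (2 * q) (2 * q), hz2q, hzz, inv_one,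
        mul_one]⟩
    have h2 : Fused A (s * z) (u * w) := ⟨n' * n, mul_mem hn' hn, by
      rw [show n' * n * (s * z) * (n' * n)⁻¹ = n' * (n * s * n⁻¹) * n'⁻¹ * w by rw [hw]; group,
        hns, hn'u]⟩
    exact hf.trans (hsz.trans h2)
  have hzni : ∀ l : ℤ, ¬ Fused A z (i * F.g ^ l) := fun l h =>
    hnfu ((hDrefl l m0 h rfl).trans hf.symm)
  obtain ⟨m, hm | hm | hm | hm⟩ := hPforms w hwP
  · rcases F.sq_one (m := m) (by rw [← hm, hww]) with h | h
    · obtain ⟨c, -, hc⟩ := hzw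
      exact F.B.z_ne (conj_eq_one_iff.1 (hc.trans (hm.trans h)))
    · exact hnfuu (by rwa [hm, h] at huw)
  · exact hzni m (hm ▸ hzw)
  · have h2 := hww
    rw [hm, hu_sq] at h2
    rcases F.sq_one h2 with h | h
    · rw [hm, h, mul_one] at hzw; exact hnfu hzw
    · rw [hm, h] at hzw; exact hnfuz hzw
  · have hm' : w = i * u * F.g ^ m := by rw [hm, ← mul_assoc, hui'.eq]
    -- the other dihedral subgroup
    have hv2 : i * u * (i * u) ∈ zpowers F.g := by
      rw [hui'.mul_mul_mul_comm, F.hii, huu, one_mul]; exact one_mem _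
    have hvn : ∀ h ∈ zpowers F.g, i * u * h * (i * u)⁻¹ ∈ zpowers F.g := by
      rintro h ⟨l, rfl⟩; exact ⟨-l, (hinv' l).symm⟩
    have hig : ∀ l : ℤ, i * u * (u * (i * F.g ^ l)) = F.g ^ l := fun l => by
      rw [show i * u * (u * (i * F.g ^ l)) = i * (u * u) * i * F.g ^ l by group, huu, mul_one,
        F.hii, one_mul]
    obtain ⟨l, ⟨hf', hsq'⟩ | ⟨hf', -⟩⟩ := key (i * u) (mul_mem F.hi huP) hv2 hvn (by
        intro p hp
        obtain ⟨l, rfl | rfl | rfl | rfl⟩ := hPforms p hp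
        · exact Or.inl (Or.inl (zpow_mem (mem_zpowers _) l))
        · exact Or.inr (Or.inr (by rw [hig l]; exact zpow_mem (mem_zpowers _) l))
        · exact Or.inr (Or.inl (by rw [← mul_assoc, huu, one_mul]; exact zpow_mem (mem_zpowers _) l))
        · exact Or.inl (Or.inr (by rw [hig l]; exact zpow_mem (mem_zpowers _) l)))
      (by
        rintro (⟨l, hl⟩ | ⟨l, hl⟩)
        · exact hunotD ⟨l, Or.inl hl.symm⟩
        · have : F.g ^ l = i := by
            rw [show F.g ^ l = i * u * u from hl, mul_assoc, huu, mul_one]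
          rcases F.sq_one (m := l) (by rw [this, F.hii]) with h | h
          · exact F.hne (by rw [← this, h, cj_one ht])
          · exact F.hiz (this ▸ h))
    · exact hgm l hf' hsq'
    · have hiu : (i * u)⁻¹ = i * u :=
        inv_eq_of_mul_eq_one_right (by rw [hui'.mul_mul_mul_comm, F.hii, huu, one_mul])
      rw [hiu] at hf'
      exact hnfu ((hErefl m l hzw hm').trans hf'.symm)

end Frame

end CfsgLib.InvolFixFour
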