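import Mathlib
import Cfsg.Agent.Invol.FourRankOne
import Cfsg.Agent.Invol.ThompsonTransfer

/-!
An involution `t` normalising a perfect group `A` with cyclic fixed 2-subgroups of order at most 4:
basic tools (fixed cosets, lifting, transfer).
-/

set_option autoImplicit false
set_option linter.unusedSectionVars false
set_option linter.style.haveILetI false

namespace CfsgLib.InvolFixFour

open Subgroup

variable {G : Type*} [Group G] [Finite G] {A : Subgroup G} {t : G}

/-- Conjugation by the involution `t`. -/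
def cj (t p : G) : G := t * p * t

/-- The hypotheses on `A` and `t`. -/
structure Cfg (A : Subgroup G) (t : G) : Prop where
  normal : A.Normal
  tt : t * t = 1
  perfect : ⁅A, A⁆ = A
  solv : ∀ N : Subgroup ↥A, N.Normal → Group.IsSolvable N → N ≤ center ↥A
  fix : ∀ Q : Subgroup G, IsPGroup 2 Q → Q ≤ A → (∀ q ∈ Q, cj t q = q) →
    IsCyclic Q ∧ Nat.card Q ∣ 4

/-- A `t`-invariant Sylow 2-subgroup of `A` with an element of order 4 fixed by `t`. -/
structure Base (A : Subgroup G) (t : G) (P : Subgroup G) (x : G) : Prop where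
  cfg : Cfg A t
  le : P ≤ A
  two : IsPGroup 2 P
  odd : Odd (P.relIndex A)
  inv : ∀ p ∈ P, cj t p ∈ P
  hx : x ∈ P
  hxt : cj t x = x
  hx4 : orderOf x = 4

/-- Conjugacy by an element of `A`. -/
def Fused (A : Subgroup G) (a b : G) : Prop := ∃ n ∈ A, n * a * n⁻¹ = b

theorem Fused.refl (a : G) : Fused A a a := ⟨1, one_mem A, by group⟩

theorem Fused.symm {a b : G} (h : Fused A a b) : Fused A b a := by
  obtain ⟨n, hn, rfl⟩ := h
  exact ⟨n⁻¹, inv_mem hn, by group⟩

theorem Fused.trans {a b c : G} (h : Fused A a b) (h' : Fused A b c) : Fused A a c := by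
  obtain ⟨n, hn, rfl⟩ := h
  obtain ⟨m, hm, rfl⟩ := h'
  exact ⟨m * n, mul_mem hm hn, by group⟩

section Cj

variable (ht : t * t = 1)
include ht

theorem cj_mul (p q : G) : cj t (p * q) = cj t p * cj t q := by
  rw [cj, cj, cj, show t * p * t * (t * q * t) = t * p * (t * t) * q * t by group, ht]
  group

theorem cj_one : cj t 1 = 1 := by rw [cj, mul_one, ht]

theorem cj_cj (p : G) : cj t (cj t p) = p := by
  rw [cj, cj, show t * (t * p * t) * t = t * t * p * (t * t) by group, ht, one_mul, mul_one]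

theorem cj_inv (p : G) : cj t p⁻¹ = (cj t p)⁻¹ :=
  eq_inv_of_mul_eq_one_left (by rw [← cj_mul ht, inv_mul_cancel, cj_one ht])

/-- Conjugation by `t` as an automorphism. -/
def cjHom : G →* G := MonoidHom.mk' (cj t) (cj_mul ht)

theorem cj_pow (p : G) (n : ℕ) : cj t (p ^ n) = (cj t p) ^ n := map_pow (cjHom ht) p n

theorem cj_zpow (p : G) (n : ℤ) : cj t (p ^ n) = (cj t p) ^ n := map_zpow (cjHom ht) p n

theorem cj_inj {p q : G} (h : cj t p = cj t q) : p = q := by
  rw [← cj_cj ht p, h, cj_cj ht q]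

theorem Fused.map_cj [A.Normal] {a b : G} (h : Fused A a b) : Fused A (cj t a) (cj t b) := by
  obtain ⟨n, hn, rfl⟩ := h
  refine ⟨cj t n, ?_, by rw [cj_mul ht, cj_mul ht, cj_inv ht]⟩
  have h2 : t⁻¹ = t := inv_eq_of_mul_eq_one_right ht
  have h3 := (inferInstance : A.Normal).conj_mem n hn t
  rwa [h2] at h3

end Cj

/-- A `t`-invariant proper subgroup of a `t`-invariant 2-group has a second fixed coset. -/
theorem exists_fixed_coset (ht : t * t = 1) {Q R : Subgroup G} (hQ2 : IsPGroup 2 Q) (hRQ : R ≤ Q)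
    (hQ : ∀ q ∈ Q, cj t q ∈ Q) (hR : ∀ r ∈ R, cj t r ∈ R) (hne : R ≠ Q) :
    ∃ q ∈ Q, q ∉ R ∧ q⁻¹ * cj t q ∈ R := by
  classical
  haveI : Fact (Nat.Prime 2) := ⟨Nat.prime_two⟩
  set R' := R.subgroupOf Q with hR'
  have hwd : ∀ a b : Q, (QuotientGroup.leftRel R').r a b →
      (QuotientGroup.leftRel R').r ⟨cj t a, hQ a a.2⟩ ⟨cj t b, hQ b b.2⟩ := by
    intro a b h
    rw [QuotientGroup.leftRel_apply] at h ⊢
    rw [hR', mem_subgroupOf] at h ⊢
    have := hR _ h
    rw [coe_mul, coe_inv, cj_mul ht, cj_inv ht] at this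
    simpa using this
  let f : Q ⧸ R' → Q ⧸ R' :=
    Quotient.map' (fun a : Q => (⟨cj t a, hQ a a.2⟩ : Q)) hwd
  have hf : Function.Involutive f := fun q => by
    induction q using Quotient.inductionOn' with
    | h a => exact congrArg Quotient.mk'' (Subtype.ext (cj_cj ht a))
  let σ : Equiv.Perm (Q ⧸ R') := hf.toPerm f
  have hσ : σ ^ 2 ^ 1 = 1 := by
    rw [pow_one, sq]
    exact Equiv.ext fun q => hf q
  have hindex : R'.index ≠ 1 := fun h => hne (le_antisymm hRQ
    (subgroupOf_eq_top.1 (index_eq_one.1 h)))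
  have hdvd : 2 ∣ Nat.card (Q ⧸ R') := by
    rw [← index_eq_card]
    obtain ⟨k, hk⟩ := hQ2.index R'
    rw [hk] at hindex ⊢
    exact dvd_pow_self 2 (by rintro rfl; exact hindex (pow_zero 2))
  haveI : Fintype (Q ⧸ R') := Fintype.ofFinite _
  have ha : σ (QuotientGroup.mk (1 : Q)) = QuotientGroup.mk (1 : Q) :=
    congrArg Quotient.mk'' (Subtype.ext (cj_one ht))
  obtain ⟨b, hb, hb1⟩ := Equiv.Perm.exists_fixed_point_of_prime'
    (by rwa [← Nat.card_eq_fintype_card]) hσ ha
  induction b using Quotient.inductionOn' with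
  | h q =>
    refine ⟨q, q.2, fun hqR => hb1 (Quotient.sound' ?_), ?_⟩
    · rw [QuotientGroup.leftRel_apply, mul_one, hR', mem_subgroupOf, coe_inv]
      exact inv_mem hqR
    · have h := Quotient.exact' hb
      rw [QuotientGroup.leftRel_apply, hR', mem_subgroupOf, coe_mul, coe_inv] at h
      have h2 := inv_mem h
      simpa using h2

/-- Lifting: no fixed point outside `R` and every relevant inverted element is a coboundary. -/
theorem eq_of_lift (ht : t * t = 1) {Q R : Subgroup G} (hQ2 : IsPGroup 2 Q) (hRQ : R ≤ Q)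
    (hQ : ∀ q ∈ Q, cj t q ∈ Q) (hR : ∀ r ∈ R, cj t r ∈ R)
    (hfix : ∀ q ∈ Q, cj t q = q → q ∈ R)
    (hsol : ∀ q ∈ Q, ∀ d ∈ R, cj t d * d = 1 → cj t q = q * d → ∃ e ∈ R, cj t e = e * d) :
    R = Q := by
  by_contra hne
  obtain ⟨q, hq, hqR, hd⟩ := exists_fixed_coset ht hQ2 hRQ hQ hR hne
  set d := q⁻¹ * cj t q with hd'
  have hcq : cj t q = q * d := by rw [hd', mul_inv_cancel_left]
  have hdd : cj t d * d = 1 := by
    rw [hd', cj_mul ht, cj_inv ht, cj_cj ht]; group
  obtain ⟨e, he, hce⟩ := hsol q hq d hd hdd hcq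
  have heQ := hRQ he
  have hfixed : cj t (q * e⁻¹) = q * e⁻¹ := by
    rw [cj_mul ht, cj_inv ht, hcq, hce]; group
  have := mul_mem (hfix _ (mul_mem hq (inv_mem heQ)) hfixed) he
  rw [inv_mul_cancel_right] at this
  exact hqR this

/-- The relative index of a Sylow subgroup in an intermediate subgroup. -/
theorem odd_relIndex_of_le {P C : Subgroup G} (hodd : Odd (P.relIndex A)) (hPC : P ≤ C)
    (hCA : C ≤ A) : Odd (P.relIndex C) :=
  hodd.of_dvd_nat ⟨C.relIndex A, (relIndex_mul_relIndex P C A hPC hCA).symm⟩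

/-- A subgroup of index two, described elementwise. -/
theorem relIndex_two {P Q : Subgroup G} {a : G} (ha : a ∈ P) (haQ : a ∉ Q)
    (h : ∀ p ∈ P, p ∈ Q ∨ a * p ∈ Q) : Q.relIndex P = 2 := by
  rw [relIndex, index_eq_two_iff]
  refine ⟨⟨a⁻¹, inv_mem ha⟩, fun b => ?_⟩
  simp only [mem_subgroupOf, coe_mul]
  by_cases hb : (b : G) ∈ Q
  · refine Or.inr ⟨hb, fun h2 => ?_⟩
    have := mul_mem (inv_mem hb) h2
    rw [inv_mul_cancel_left] at this
    exact haQ (inv_inv a ▸ inv_mem this)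
  · refine Or.inl ⟨?_, hb⟩
    rcases h b⁻¹ (inv_mem b.2) with h1 | h1
    · exact absurd (inv_inv (b : G) ▸ inv_mem h1) hb
    · have := inv_mem h1
      rwa [mul_inv_rev, inv_inv] at this

theorem conj_mem_map {P : Subgroup G} {n p : G} (hp : p ∈ P) :
    n * p * n⁻¹ ∈ P.map (MulAut.conj n).toMonoidHom := ⟨p, hp, rfl⟩

namespace Base

variable {P : Subgroup G} {x : G} (B : Base A t P x)
include B

theorem tt : t * t = 1 := B.cfg.tt

theorem x_pow : x ^ 4 = 1 := B.hx4 ▸ pow_orderOf_eq_one x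

theorem zz : x * x * (x * x) = 1 := by
  rw [← B.x_pow]; simp only [pow_succ, pow_zero, one_mul, mul_assoc]

theorem z_ne : x * x ≠ 1 := fun h => by
  have h2 : orderOf x ∣ 2 := orderOf_dvd_of_pow_eq_one (by rw [sq, h])
  rw [B.hx4] at h2; omega

theorem z_mem : x * x ∈ P := mul_mem B.hx B.hx

theorem cj_z : cj t (x * x) = x * x := by rw [cj_mul B.tt, B.hxt]

theorem z_inv : (x * x)⁻¹ = x * x := inv_eq_of_mul_eq_one_right B.zz

/-- The fixed points in `P`. -/
theorem fix_mem {p : G} (hp : p ∈ P) (hc : cj t p = p) :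
    p = 1 ∨ p = x ∨ p = x * x ∨ p = x⁻¹ := by
  set Q := closure ({p, x} : Set G)
  have hQP : Q ≤ P := (closure_le _).2 (by
    rintro y (rfl | rfl)
    exacts [hp, B.hx])
  have hQc : ∀ q ∈ Q, cj t q = q := by
    intro q hq
    induction hq using closure_induction with
    | mem y hy =>
      rcases hy with rfl | rfl
      exacts [hc, B.hxt]
    | one => exact cj_one B.tt
    | mul a b _ _ ha hb => rw [cj_mul B.tt, ha, hb]
    | inv a _ ha => rw [cj_inv B.tt, ha]
  obtain ⟨-, hdvd⟩ := B.cfg.fix Q (B.two.to_le hQP) (hQP.trans B.le) hQc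
  have hle : zpowers x ≤ Q := zpowers_le.2 (subset_closure (by simp))
  have heq : zpowers x = Q := eq_of_le_of_card_ge hle (by
    rw [Nat.card_zpowers, B.hx4]; exact Nat.le_of_dvd (by norm_num) hdvd)
  have hpz : p ∈ zpowers x := heq ▸ subset_closure (by simp)
  obtain ⟨i, rfl⟩ := mem_zpowers_iff.1 hpz
  rw [← zpow_mod_orderOf x i, B.hx4]
  have h0 : 0 ≤ i % ((4 : ℕ) : ℤ) := Int.emod_nonneg _ (by norm_num)
  have h4 : i % ((4 : ℕ) : ℤ) < 4 := Int.emod_lt_of_pos _ (by norm_num)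
  have h3 : x ^ (3 : ℤ) = x⁻¹ := by
    rw [eq_inv_iff_mul_eq_one]
    have := B.x_pow
    rw [pow_succ] at this
    exact_mod_cast this
  interval_cases hh : i % ((4 : ℕ) : ℤ)
  · exact Or.inl (zpow_zero x)
  · exact Or.inr (Or.inl (zpow_one x))
  · exact Or.inr (Or.inr (Or.inl (zpow_two x)))
  · exact Or.inr (Or.inr (Or.inr h3))

theorem invol_fix {p : G} (hp : p ∈ P) (hc : cj t p = p) (hpp : p * p = 1) :
    p = 1 ∨ p = x * x := by
  rcases B.fix_mem hp hc with h | h | h | h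
  · exact Or.inl h
  · exact absurd (h ▸ hpp) B.z_ne
  · exact Or.inr h
  · refine absurd (inv_eq_one.1 (?_ : (x * x)⁻¹ = 1)) B.z_ne
    rw [mul_inv_rev, ← h]; exact hpp

/-- The fixed involution is central in `P`. -/
theorem z_central {p : G} (hp : p ∈ P) : Commute (x * x) p := by
  haveI : Fact (Nat.Prime 2) := ⟨Nat.prime_two⟩
  haveI : Group.IsNilpotent P := B.two.isNilpotent
  set Z := (center P).map P.subtype with hZ
  have hZP : Z ≤ P := map_subtype_le _
  have hZt : ∀ q ∈ Z, cj t q ∈ Z := by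
    rintro _ ⟨q, hq, rfl⟩
    refine ⟨⟨cj t q, B.inv _ q.2⟩, mem_center_iff.2 fun r => Subtype.ext ?_, rfl⟩
    have := congrArg (fun w : P => cj t (w : G))
      (mem_center_iff.1 hq ⟨cj t r, B.inv _ r.2⟩)
    simp only [coe_mul, cj_mul B.tt, cj_cj B.tt] at this
    exact this
  have hne : (⊥ : Subgroup G) ≠ Z := fun h => by
    haveI : Nontrivial P := ⟨⟨⟨x * x, B.z_mem⟩, 1, fun e => B.z_ne (congrArg Subtype.val e)⟩⟩
    have h2 := B.two.center_nontrivial
    exact (nontrivial_iff_ne_bot (center P)).1 h2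
      ((map_eq_bot_iff_of_injective _ P.subtype_injective).1 h.symm)
  obtain ⟨q, hqZ, hq1, hfix⟩ := exists_fixed_coset B.tt (B.two.to_le hZP) bot_le hZt
    (fun r hr => by rw [mem_bot] at hr ⊢; rw [hr, cj_one B.tt]) hne
  rw [mem_bot] at hq1
  rw [mem_bot, inv_mul_eq_one] at hfix
  have hcq : ∀ r ∈ Z, Commute r p := by
    rintro _ ⟨r, hr, rfl⟩
    exact (congrArg Subtype.val (mem_center_iff.1 hr ⟨p, hp⟩)).symm
  rcases B.fix_mem (hZP hqZ) hfix.symm with h | h | h | h
  · exact absurd h hq1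
  · rw [← h]; exact hcq _ (mul_mem hqZ hqZ)
  · rw [← h]; exact hcq _ hqZ
  · rw [← B.z_inv, mul_inv_rev, ← h]; exact hcq _ (mul_mem hqZ hqZ)

/-- A 2-subgroup of `A` containing `P` is `P`. -/
theorem le_of_two {R : Subgroup G} (hR : IsPGroup 2 R) (hRA : R ≤ A) (hPR : P ≤ R) : R ≤ P := by
  haveI : Fact (Nat.Prime 2) := ⟨Nat.prime_two⟩
  have h1 := odd_relIndex_of_le B.odd hPR hRA
  obtain ⟨k, hk⟩ := hR.index (P.subgroupOf R)
  rw [relIndex, hk] at h1
  rcases k with _ | k
  · exact subgroupOf_eq_top.1 (index_eq_one.1 (hk.trans (pow_zero 2)))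
  · exact absurd h1 (by simp [Nat.pow_succ])

/-- A 2-subgroup of `A` centralising `w`, with `P` centralising `w`, is conjugate into `P` by an
element centralising `w`. -/
theorem into_of_central {w : G} (hw : ∀ p ∈ P, Commute w p) {R : Subgroup G} (hR : IsPGroup 2 R)
    (hRA : R ≤ A) (hRw : ∀ r ∈ R, Commute w r) :
    ∃ n ∈ A, n * w * n⁻¹ = w ∧ ∀ r ∈ R, n * r * n⁻¹ ∈ P := by
  have hle : ∀ H : Subgroup G, H ≤ A → (∀ h ∈ H, Commute w h) →
      H ≤ A ⊓ centralizer ({w} : Set G) := fun H hH hc h hh =>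
    ⟨hH hh, mem_centralizer_singleton_iff.2 (hc h hh).eq.symm⟩
  obtain ⟨n, hn, hnR⟩ := FourRankOne.conj_into (hle P B.le hw) B.two
    (odd_relIndex_of_le B.odd (hle P B.le hw) inf_le_left) (hle R hRA hRw) hR
  refine ⟨n, hn.1, ?_, hnR⟩
  rw [mem_centralizer_singleton_iff.1 hn.2, mul_inv_cancel_right]

theorem into {R : Subgroup G} (hR : IsPGroup 2 R) (hRA : R ≤ A) :
    ∃ n ∈ A, ∀ r ∈ R, n * r * n⁻¹ ∈ P := by
  obtain ⟨n, hn, -, h⟩ := B.into_of_central (w := 1) (fun p _ => Commute.one_left p) hR hRA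
    (fun r _ => Commute.one_left r)
  exact ⟨n, hn, h⟩

/-- Two central elements of `P` fused in `A` are fused by an element normalising `P`. -/
theorem fused_normalizer {a b : G} (hb : ∀ p ∈ P, Commute b p)
    (ha' : ∀ p ∈ P, Commute a p) (h : Fused A a b) :
    ∃ n ∈ A, n * a * n⁻¹ = b ∧ ∀ p ∈ P, n * p * n⁻¹ ∈ P := by
  obtain ⟨n, hn, rfl⟩ := h
  obtain ⟨m, hm, hmw, hmP⟩ := B.into_of_central hb
    (R := P.map (MulAut.conj n).toMonoidHom) (B.two.map _)
    (by rintro _ ⟨p, hp, rfl⟩; exact mul_mem (mul_mem hn (B.le hp)) (inv_mem hn))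
    (by
      rintro _ ⟨p, hp, rfl⟩
      simp only [MulEquiv.coe_toMonoidHom, MulAut.conj_apply]
      have := (ha' p hp).eq
      show n * a * n⁻¹ * (n * p * n⁻¹) = n * p * n⁻¹ * (n * a * n⁻¹)
      rw [show n * a * n⁻¹ * (n * p * n⁻¹) = n * (a * p) * n⁻¹ by group, this]; group)
  refine ⟨m * n, mul_mem hm hn, ?_, fun p hp => ?_⟩
  · rw [show m * n * a * (m * n)⁻¹ = m * (n * a * n⁻¹) * m⁻¹ by group, hmw]
  · rw [show m * n * p * (m * n)⁻¹ = m * (n * p * n⁻¹) * m⁻¹ by group]
    exact hmP _ (conj_mem_map hp)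

/-- An element normalising `P` cannot interchange two central elements. -/
theorem no_swap {a b n : G} (ha : ∀ p ∈ P, Commute a p) (hab : a ≠ b) (hn : n ∈ A)
    (hnP : ∀ p ∈ P, n * p * n⁻¹ ∈ P) (h1 : n * a * n⁻¹ = b) (h2 : n * b * n⁻¹ = a) : False := by
  haveI : Fact (Nat.Prime 2) := ⟨Nat.prime_two⟩
  set N := orderOf n
  have hN : N ≠ 0 := (orderOf_pos n).ne'
  set m := N / 2 ^ N.factorization 2 with hm
  have hmodd : Odd m := by
    rw [← Nat.not_even_iff_odd, even_iff_two_dvd]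
    exact Nat.not_dvd_ordCompl Nat.prime_two hN
  have hswap : ∀ j : ℕ, n ^ (2 * j + 1) * a * (n ^ (2 * j + 1))⁻¹ = b := by
    intro j
    induction j with
    | zero => simpa using h1
    | succ j ih =>
      rw [show 2 * (j + 1) + 1 = 1 + (1 + (2 * j + 1)) by ring, pow_add, pow_one,
        pow_add n 1 (2 * j + 1), pow_one,
        show n * (n * n ^ (2 * j + 1)) * a * (n * (n * n ^ (2 * j + 1)))⁻¹ =
          n * (n * (n ^ (2 * j + 1) * a * (n ^ (2 * j + 1))⁻¹) * n⁻¹) * n⁻¹ by group, ih, h2, h1]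
  have hpow : (n ^ m) ^ 2 ^ N.factorization 2 = 1 := by
    rw [← pow_mul, hm, mul_comm, Nat.ordProj_mul_ordCompl_eq_self, pow_orderOf_eq_one]
  have hZ : IsPGroup 2 (zpowers (n ^ m)) := by
    obtain ⟨k, -, hk⟩ := (Nat.dvd_prime_pow Nat.prime_two).1 (orderOf_dvd_of_pow_eq_one hpow)
    exact IsPGroup.of_card (n := k) (by rw [Nat.card_zpowers, hk])
  have hmapP : P.map (MulAut.conj n).toMonoidHom = P := by
    refine eq_of_le_of_card_ge ?_ ?_
    · rintro _ ⟨p, hp, rfl⟩; exact hnP p hp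
    · rw [card_map_of_injective (MulAut.conj n).injective]
  have hnorm : zpowers (n ^ m) ≤ normalizer (P : Set G) := by
    rw [zpowers_le]
    refine pow_mem ?_ m
    rw [mem_normalizer_iff]
    intro p
    refine ⟨hnP p, fun h => ?_⟩
    rw [← hmapP] at h
    obtain ⟨q, hq, he⟩ := h
    have : q = p := (MulAut.conj n).injective he
    exact this ▸ hq
  have hle : zpowers (n ^ m) ⊔ P ≤ P := B.le_of_two (hZ.to_sup_of_normal_right' B.two hnorm)
    (sup_le (zpowers_le.2 (pow_mem hn m)) B.le) le_sup_right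
  have hmP : n ^ m ∈ P := hle (mem_sup_left (mem_zpowers _))
  obtain ⟨j, hj⟩ := hmodd
  have := hswap j
  rw [← hj, (ha _ hmP).symm.eq, mul_inv_cancel_right] at this
  exact hab this

/-- If the square involution of `P` is unique, it is not fused to an involution commuting with a
square root of it. -/
theorem not_fused_z (huniq : ∀ p ∈ P, p * p * (p * p) = 1 → p * p ≠ 1 → p * p = x * x)
    {a w : G} (hw : w ∈ P) (hww : w * w = x * x) (hc : Commute w a) (haz : a ≠ x * x) :
    ¬ Fused A (x * x) a := by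
  intro h
  obtain ⟨n, hn, hna⟩ := h.symm
  have hR : IsPGroup 2 (zpowers (n * w * n⁻¹)) := by
    have : zpowers (n * w * n⁻¹) = (zpowers w).map (MulAut.conj n).toMonoidHom := by
      rw [MonoidHom.map_zpowers]; rfl
    rw [this]
    exact (B.two.to_le (zpowers_le.2 hw)).map _
  have hcz : Commute (x * x) (n * w * n⁻¹) := by
    rw [← hna]; exact hc.symm.conj n
  obtain ⟨m, hm, hmz, hmR⟩ := B.into_of_central (w := x * x) (fun p hp => B.z_central hp) hR
    (zpowers_le.2 (mul_mem (mul_mem hn (B.le hw)) (inv_mem hn)))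
    (by
      rintro r ⟨i, rfl⟩
      exact hcz.zpow_right i)
  set p := m * (n * w * n⁻¹) * m⁻¹ with hp
  have hpp : p * p = (m * n) * (x * x) * (m * n)⁻¹ := by rw [hp, ← hww]; group
  have hma : (m * n) * a * (m * n)⁻¹ = x * x := by
    rw [show (m * n) * a * (m * n)⁻¹ = m * (n * a * n⁻¹) * m⁻¹ by group, hna, hmz]
  have h4 : p * p * (p * p) = 1 := by rw [hpp, conj_mul, B.zz]; group
  have hne : p * p ≠ 1 := fun h => B.z_ne (conj_eq_one_iff.1 (hpp.symm.trans h))
  have he := huniq p (hmR _ (mem_zpowers _)) h4 hne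
  replace he := (hpp.symm.trans he).trans hma.symm
  exact haz (mul_left_cancel (mul_right_cancel he)).symm

/-- Thompson transfer in `A`. -/
theorem transfer_contra {Q : Subgroup G} (hQP : Q ≤ P) (hQi : Q.relIndex P = 2) {u : G}
    (hu : u ∈ P) (huu : u * u = 1) (h : ∀ n ∈ A, n * u * n⁻¹ ∉ Q) : False := by
  have hQA : Q ≤ A := hQP.trans B.le
  have hrel : (Q.subgroupOf A).relIndex (P.subgroupOf A) = 2 := by
    rw [relIndex_subgroupOf B.le, hQi]
  rcases ThompsonTransfer.thompson_transfer (P.subgroupOf A) (Q.subgroupOf A) B.odd hrel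
    (u := ⟨u, B.le hu⟩) (Subtype.ext huu) with ⟨M, hMn, hM, huM⟩ | ⟨g, hg⟩
  · refine huM (?_ : _ ∈ M)
    have htop : commutator A ≤ M := by
      haveI := hMn
      refine Subgroup.Normal.quotient_commutative_iff_commutator_le.1 ?_
      haveI : IsCyclic (A ⧸ M) := isCyclic_of_prime_card (p := 2) (by rw [← index_eq_card, hM])
      exact IsCyclic.isMulCommutative
    refine htop ?_
    have hc : commutator A = ⊤ := by
      apply map_injective A.subtype_injective
      rw [map_subtype_commutator, B.cfg.perfect, ← MonoidHom.range_eq_map, range_subtype]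
    rw [hc]; exact mem_top _
  · exact h g g.2 (by simpa [mem_subgroupOf] using hg)

end Base

end CfsgLib.InvolFixFour
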