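import Cfsg.Agent.InvolFixFour.Semi

/-!
A semidihedral Sylow subgroup: the contradiction.
-/

set_option autoImplicit false
set_option linter.unusedSectionVars false
set_option linter.style.haveILetI false

namespace CfsgLib.InvolFixFour

open Subgroup

variable {G : Type*} [Group G] [Finite G] {A : Subgroup G} {t : G}

namespace Frame

variable {P : Subgroup G} {x i : G} (F : Frame A t P x i)

namespace Semi

variable {F} {s r s0 j0 : ℤ} (S : Semi F s r s0 j0)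
include S

theorem cyclic_sylow : ∃ n' ∈ A, ∃ R : Subgroup G, R ≤ A ∧ IsPGroup 2 R ∧ x ∈ R ∧
    (∀ w ∈ R, cj t w ∈ R) ∧ n'⁻¹ * (x * i) * n' ∈ R ∧ R ≤ zpowers (n'⁻¹ * (x * i) * n') ∧
    n' * (x * x) * n'⁻¹ = x * x := by
  have ht := F.tt
  haveI := F.B.cfg.normal
  set z := x * x with hz
  have hzz : z * z = 1 := F.B.zz
  have hzc : ∀ p ∈ P, Commute z p := fun p hp => F.B.z_central hp
  set q : ℤ := ((orderOf F.g / 4 : ℕ) : ℤ)
  have hz2q : F.g ^ (2 * q) = z := F.z_eq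
  set c0 := x * i with hc0
  have hc0P : c0 ∈ P := S.c_mem
  have hP := S.forms
  have hcg := S.cg
  have hxgz := S.xgz
  have hix := S.ix
  have hr := S.hr
  have hrr := S.hrr
  have hrj := S.hrj
  have hs0 := S.hs0
  have hxsq := S.x_sq
  have hcsq := S.c_sq
  have hrodd := S.r_odd
  have hxig := S.xig
  have hcig := S.cig
  have hgig := F.gconj
  have hgC := S.gC
  have hC0forms := S.cForms
  have hC0inv : ∀ w ∈ zpowers c0, w * w = 1 → w ≠ 1 → w = z := fun w h1 h2 h3 => S.cInv h1 h2 h3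
  have hi1 := S.i_ne
  obtain ⟨n, hn, m0, hm0⟩ := S.fused_x
  -- a cyclic invariant Sylow subgroup of the centraliser of `x`
  set H := A ⊓ centralizer ({x} : Set G) with hH
  have hHmem : ∀ {h : G}, h ∈ A → Commute x h → h ∈ H := fun h1 h2 =>
    ⟨h1, mem_centralizer_singleton_iff.2 h2.eq.symm⟩
  have hHc : ∀ {h : G}, h ∈ H → Commute x h := fun h =>
    (mem_centralizer_singleton_iff.1 h.2).symm
  have hHinv : ∀ h ∈ H, cj t h ∈ H := fun h hh => hHmem (by
      have h2 := F.B.cfg.normal.conj_mem h hh.1 t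
      rwa [inv_eq_of_mul_eq_one_right ht] at h2) (by
    have := congrArg (cj t) (hHc hh).eq
    rwa [cj_mul ht, cj_mul ht, F.B.hxt] at this)
  obtain ⟨R, hRH, hR2, hRodd, hRinv⟩ := exists_inv_sylow ht H hHinv
  have hxR : x ∈ R := by
    have hx2 : IsPGroup 2 (zpowers x) := F.B.two.to_le (zpowers_le.2 F.B.hx)
    have hnorm : zpowers x ≤ normalizer (R : Set G) := by
      rw [zpowers_le, mem_normalizer_iff]
      intro d
      constructor
      · intro hd; rwa [(hHc (hRH hd)).eq, mul_inv_cancel_right]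
      · intro hd
        have h := (hHc (hRH hd)).eq
        have h2 : x * d * x⁻¹ = d := by
          have h3 : x * (x * d * x⁻¹) = x * d := by rw [h]; group
          exact mul_left_cancel h3
        rwa [h2] at hd
    exact le_of_odd hRodd le_sup_right
      (sup_le (zpowers_le.2 (hHmem (F.B.le F.B.hx) (Commute.refl x))) hRH)
      (hx2.to_sup_of_normal_right' hR2 hnorm) (mem_sup_left (mem_zpowers x))
  set c' := n⁻¹ * c0 * n with hc'
  have hc'H : c' ∈ H := by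
    refine hHmem (mul_mem (mul_mem (inv_mem hn) (F.B.le hc0P)) hn) ?_
    have hx' : x = n⁻¹ * F.g ^ m0 * n := by rw [← hm0]; group
    have h := (hcg m0).symm.conj n⁻¹
    rw [inv_inv, ← hx'] at h
    exact h
  obtain ⟨hh, hhH, hhR⟩ := FourRankOne.conj_into hRH hR2 hRodd (zpowers_le.2 hc'H) (by
    have : zpowers c' = (zpowers c0).map (MulAut.conj n⁻¹).toMonoidHom := by
      rw [MonoidHom.map_zpowers, hc']; congr 1; simp [mul_assoc]
    rw [this]; exact (F.B.two.to_le (zpowers_le.2 hc0P)).map _)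
  obtain ⟨n', hn', hn'P⟩ := F.B.into hR2 (hRH.trans inf_le_left)
  set x' := n' * x * n'⁻¹ with hx'
  set p := n' * (hh * c' * hh⁻¹) * n'⁻¹ with hp
  have hpP : p ∈ P := hn'P _ (hhR _ (mem_zpowers _))
  have hx'P : x' ∈ P := hn'P x hxR
  have hp4 : p ^ 4 ≠ 1 := by
    rw [hp, hc', show n' * (hh * (n⁻¹ * c0 * n) * hh⁻¹) * n'⁻¹ =
      (n' * hh * n⁻¹) * c0 * (n' * hh * n⁻¹)⁻¹ by group, conj_pow]
    intro h
    have h0 := conj_eq_one_iff.1 h
    refine hrodd 0 ?_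
    rw [mul_zero, add_zero, ← hr, ← h0]
    simp only [hc0, pow_succ, pow_zero, one_mul, mul_assoc]
  have hx'p : Commute x' p := (hHc (hRH (hhR _ (mem_zpowers _)))).conj n'
  have hx'4 : x' ^ 4 = 1 := by rw [hx', conj_pow, F.B.x_pow, mul_one, mul_inv_cancel]
  have hx'2 : x' * x' ≠ 1 := fun h => F.B.z_ne (by rwa [hx', conj_mul, conj_eq_one_iff] at h)
  have pow4 : ∀ a : G, a ^ 4 = a * a * (a * a) := fun a => by
    simp only [pow_succ, pow_zero, one_mul, mul_assoc]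
  obtain ⟨l, hl⟩ : ∃ l : ℤ, x' = F.g ^ l := by
    obtain ⟨m, h | h | h | h⟩ := hP x' hx'P
    · exact ⟨m, h⟩
    · exact absurd (h ▸ F.ig_sq m) hx'2
    · exfalso
      obtain ⟨k, hk | hk | hk | hk⟩ := hP p hpP
      · have h1 := hx'p.eq
        rw [h, hk] at h1
        have h2 : F.g ^ k = F.g ^ (-k) := by
          rw [← hxgz k]
          have h3 : x * F.g ^ m * F.g ^ k * (x * F.g ^ m)⁻¹ = F.g ^ k := by
            rw [h1, mul_inv_cancel_right]
          conv_lhs => rw [← h3]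
          rw [show x * F.g ^ m * F.g ^ k * (x * F.g ^ m)⁻¹ =
            x * (F.g ^ m * F.g ^ k * (F.g ^ m)⁻¹) * x⁻¹ by group,
            ((Commute.refl F.g).zpow_zpow m k).eq, mul_inv_cancel_right]
        refine hp4 ?_
        rw [pow4, hk]
        nth_rw 2 [h2]
        nth_rw 3 [h2]
        rw [← zpow_add, add_neg_cancel, zpow_zero, one_mul]
      · exact hp4 (by rw [pow4, hk, F.ig_sq, one_mul])
      · exact hp4 (by rw [pow4, hk, hxsq, hzz])
      · have h1 : Commute x' (p * p) := hx'p.mul_right hx'p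
        rw [h, hk, hcsq] at h1
        refine hrodd k ?_
        have h2 : x * F.g ^ m * F.g ^ (r + 2 * k) * (x * F.g ^ m)⁻¹ = F.g ^ (r + 2 * k) := by
          rw [h1.eq, mul_inv_cancel_right]
        rw [show x * F.g ^ m * F.g ^ (r + 2 * k) * (x * F.g ^ m)⁻¹ =
          x * (F.g ^ m * F.g ^ (r + 2 * k) * (F.g ^ m)⁻¹) * x⁻¹ by group,
          ((Commute.refl F.g).zpow_zpow m (r + 2 * k)).eq, mul_inv_cancel_right, hxgz] at h2
        nth_rw 1 [← h2]
        rw [← zpow_add, neg_add_cancel, zpow_zero]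
    · exfalso
      refine hrodd m ?_
      rw [pow4, h, hcsq] at hx'4
      exact hx'4
  have hx'z : F.g ^ l * F.g ^ l = z := by
    refine (hC0inv _ (mul_mem (hgC l) (hgC l)) ?_ ?_)
    · rw [← hl, ← pow4]; exact hx'4
    · rw [← hl]; exact hx'2
  set ρ := n'⁻¹ * c0 * n' with hρ
  have hρH : ρ ∈ H := by
    refine hHmem (mul_mem (mul_mem (inv_mem hn') (F.B.le hc0P)) hn') ?_
    have hxl : x = n'⁻¹ * F.g ^ l * n' := by rw [← hl, hx']; group
    have h := (hcg l).symm.conj n'⁻¹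
    rw [inv_inv, ← hxl] at h
    exact h
  have hRρ : R ≤ zpowers ρ := by
    intro w hw
    have hwP := hn'P w hw
    have hcw : Commute (F.g ^ l) (n' * w * n'⁻¹) := hl ▸ (hHc (hRH hw)).conj n'
    obtain ⟨m, hm⟩ : ∃ m : ℤ, n' * w * n'⁻¹ = F.g ^ m ∨ n' * w * n'⁻¹ = c0 * F.g ^ m := by
      obtain ⟨m, h | h | h | h⟩ := hP _ hwP
      · exact ⟨m, Or.inl h⟩
      · exfalso
        rw [h] at hcw
        have h2 : i * F.g ^ m * F.g ^ l * (i * F.g ^ m)⁻¹ = F.g ^ l := by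
          rw [← hcw.eq, mul_inv_cancel_right]
        rw [show i * F.g ^ m * F.g ^ l * (i * F.g ^ m)⁻¹ =
          i * (F.g ^ m * F.g ^ l * (F.g ^ m)⁻¹) * i⁻¹ by group,
          ((Commute.refl F.g).zpow_zpow m l).eq, mul_inv_cancel_right, F.conj_g] at h2
        refine F.B.z_ne (hx'z.symm.trans ?_)
        nth_rw 1 [← h2]
        rw [← zpow_add, neg_add_cancel, zpow_zero]
      · exfalso
        rw [h] at hcw
        have h2 : x * F.g ^ m * F.g ^ l * (x * F.g ^ m)⁻¹ = F.g ^ l := by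
          rw [← hcw.eq, mul_inv_cancel_right]
        rw [show x * F.g ^ m * F.g ^ l * (x * F.g ^ m)⁻¹ =
          x * (F.g ^ m * F.g ^ l * (F.g ^ m)⁻¹) * x⁻¹ by group,
          ((Commute.refl F.g).zpow_zpow m l).eq, mul_inv_cancel_right, hxgz] at h2
        refine F.B.z_ne (hx'z.symm.trans ?_)
        nth_rw 1 [← h2]
        rw [← zpow_add, neg_add_cancel, zpow_zero]
      · exact ⟨m, Or.inr h⟩
    have hmem : n' * w * n'⁻¹ ∈ zpowers c0 := by
      rcases hm with h | h <;> rw [h]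
      exacts [hgC m, mul_mem (mem_zpowers _) (hgC m)]
    obtain ⟨k, hk⟩ := hmem
    refine ⟨k, ?_⟩
    show ρ ^ k = w
    have hk' : c0 ^ k = n' * w * n'⁻¹ := hk
    rw [hρ, show n'⁻¹ * c0 * n' = n'⁻¹ * c0 * n'⁻¹⁻¹ by rw [inv_inv], conj_zpow, hk']
    group
  have hρR : ρ ∈ R := le_of_odd hRodd hRρ (zpowers_le.2 hρH) (by
    have : zpowers ρ = (zpowers c0).map (MulAut.conj n'⁻¹).toMonoidHom := by
      rw [MonoidHom.map_zpowers, hρ]; congr 1; simp [mul_assoc]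
    rw [this]; exact (F.B.two.to_le (zpowers_le.2 hc0P)).map _) (mem_zpowers ρ)
  refine ⟨n', hn', R, hRH.trans inf_le_left, hR2, hxR, hRinv, hρR, hRρ, ?_⟩
  rw [← conj_mul, ← hx', hl, hx'z]

theorem square_fixed {R : Subgroup G} {ρ : G} (hR2 : IsPGroup 2 R) (hxR : x ∈ R)
    (hRinv : ∀ w ∈ R, cj t w ∈ R) (hρR : ρ ∈ R) (hRρ : R ≤ zpowers ρ) : cj t (ρ * ρ) = ρ * ρ := by
  haveI : Fact (Nat.Prime 2) := ⟨Nat.prime_two⟩
  have ht := F.tt
  obtain ⟨K, hK⟩ : ∃ K : ℕ, orderOf ρ = 2 ^ K := by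
    obtain ⟨k, hk⟩ := hR2 ⟨ρ, hρR⟩
    obtain ⟨j, -, hj⟩ := (Nat.dvd_prime_pow Nat.prime_two).1
      (orderOf_dvd_of_pow_eq_one (show ρ ^ 2 ^ k = 1 from congrArg Subtype.val hk))
    exact ⟨j, hj⟩
  obtain ⟨ε, hε⟩ := mem_zpowers_iff.1 (hRρ (hRinv ρ hρR))
  obtain ⟨j, hj⟩ := mem_zpowers_iff.1 (hRρ hxR)
  have hcancel : ∀ a o : ℤ, (∃ k, o = 2 * k + 1) → ρ ^ (a * o) = 1 → ρ ^ a = 1 := by
    rintro a _ ⟨k, rfl⟩ h
    rw [← orderOf_dvd_iff_zpow_eq_one, hK] at h ⊢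
    push_cast at h ⊢
    have hc : IsCoprime (2 : ℤ) (2 * k + 1) := ⟨-k, 1, by ring⟩
    exact hc.pow_left.dvd_of_dvd_mul_right h
  have hfixx : ρ ^ (j * (ε - 1)) = 1 := by
    have h := F.B.hxt
    rw [← hj, cj_zpow ht, ← hε, ← zpow_mul, mul_comm ε j] at h
    rw [mul_sub, mul_one, zpow_sub, h, mul_inv_cancel]
  have hx2 : ρ ^ (2 * j) ≠ 1 := fun h => F.B.z_ne (by
    rw [mul_comm, zpow_mul, hj, zpow_two] at h; exact h)
  have hρfix : cj t (ρ * ρ) = ρ * ρ := by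
    have hε2 : ρ ^ (ε * ε) = ρ := by
      rw [zpow_mul, hε, ← cj_zpow ht, hε, cj_cj ht]
    have h2 : ρ ^ ((ε - 1) * (ε + 1)) = 1 := by
      rw [show (ε - 1) * (ε + 1) = ε * ε - 1 by ring, zpow_sub, hε2, zpow_one, mul_inv_cancel]
    obtain ⟨k, hk | hk | hk | hk⟩ :
        ∃ k : ℤ, ε = 4 * k ∨ ε = 4 * k + 1 ∨ ε = 4 * k + 2 ∨ ε = 4 * k + 3 := ⟨ε / 4, by omega⟩
    · exact absurd (hcancel j (ε - 1) ⟨2 * k - 1, by rw [hk]; ring⟩ hfixx)
        (fun h => hx2 (by rw [mul_comm, zpow_mul, h, one_zpow]))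
    · have h8 : ρ ^ (8 * k) = 1 := hcancel (8 * k) (2 * k + 1) ⟨k, rfl⟩ (by
        rw [← h2, hk]; congr 1; ring)
      rw [cj_mul ht, ← hε, ← zpow_add, hk, show 4 * k + 1 + (4 * k + 1) = 8 * k + 2 by ring,
        zpow_add, h8, one_mul, zpow_two]
    · exact absurd (hcancel j (ε - 1) ⟨2 * k, by rw [hk]; ring⟩ hfixx)
        (fun h => hx2 (by rw [mul_comm, zpow_mul, h, one_zpow]))
    · refine absurd (hcancel (2 * j) (2 * k + 1) ⟨k, rfl⟩ ?_) hx2
      rw [← hfixx, hk]; congr 1; ring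
  exact hρfix

theorem false_of_semi : False := by
  have pow4 : ∀ a : G, a ^ 4 = a * a * (a * a) := fun a => by
    simp only [pow_succ, pow_zero, one_mul, mul_assoc]
  haveI : Fact (Nat.Prime 2) := ⟨Nat.prime_two⟩
  have ht := F.tt
  haveI := F.B.cfg.normal
  set z := x * x with hz
  have hzz : z * z = 1 := F.B.zz
  have hzc : ∀ p ∈ P, Commute z p := fun p hp => F.B.z_central hp
  set q : ℤ := ((orderOf F.g / 4 : ℕ) : ℤ)
  have hz2q : F.g ^ (2 * q) = z := F.z_eq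
  set c0 := x * i with hc0
  have hc0P : c0 ∈ P := S.c_mem
  have hP := S.forms
  have hcg := S.cg
  have hxgz := S.xgz
  have hix := S.ix
  have hr := S.hr
  have hrr := S.hrr
  have hrj := S.hrj
  have hs0 := S.hs0
  have hxsq := S.x_sq
  have hcsq := S.c_sq
  have hrodd := S.r_odd
  have hxig := S.xig
  have hcig := S.cig
  have hgig := F.gconj
  have hgC := S.gC
  have hC0forms := S.cForms
  have hC0inv : ∀ w ∈ zpowers c0, w * w = 1 → w ≠ 1 → w = z := fun w h1 h2 h3 => S.cInv h1 h2 h3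
  have hi1 := S.i_ne
  obtain ⟨n', hn', R, hRA, hR2, hxR, hRinv, hρR, hRρ, hzn⟩ := S.cyclic_sylow
  set ρ := n'⁻¹ * c0 * n' with hρ
  have hρfix := S.square_fixed hR2 hxR hRinv hρR hRρ
  have hρ8 : c0 * c0 * (c0 * c0) * (c0 * c0 * (c0 * c0)) = 1 := by
    have hle : zpowers (ρ * ρ) ≤ R := zpowers_le.2 (mul_mem hρR hρR)
    obtain ⟨-, hdvd⟩ := F.B.cfg.fix (zpowers (ρ * ρ)) (hR2.to_le hle)
      (hle.trans hRA) (by
        rintro w ⟨k, rfl⟩
        show cj t ((ρ * ρ) ^ k) = _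
        rw [cj_zpow ht, hρfix])
    rw [Nat.card_zpowers] at hdvd
    have h : (ρ * ρ) ^ 4 = 1 := orderOf_dvd_iff_pow_eq_one.1 hdvd
    rw [hρ, show n'⁻¹ * c0 * n' * (n'⁻¹ * c0 * n') = n'⁻¹ * (c0 * c0) * n'⁻¹⁻¹ by group, conj_pow,
      conj_eq_one_iff, pow4] at h
    exact h
  have hg4 : F.g ^ (4 : ℤ) = 1 := by
    refine F.cancel_odd (n := 4) (j := j0) ?_
    rw [hr, ← zpow_add, ← zpow_add] at hρ8
    rw [← hρ8, hrj]; congr 1; ring
  have hsqfix : ∀ w ∈ R, cj t (w * w) = w * w := by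
    intro w hw
    obtain ⟨k, rfl⟩ := mem_zpowers_iff.1 (hRρ hw)
    rw [← zpow_add, show k + k = 2 * k by ring, zpow_mul, zpow_two, cj_zpow ht, hρfix]
  -- a Sylow subgroup in the normaliser of `R`
  set N' := A ⊓ normalizer (R : Set G) with hN'
  obtain ⟨P', hP'N, hP'2, hP'odd, hP'inv⟩ := exists_inv_sylow ht N' (fun w hw => ⟨by
      have h2 := F.B.cfg.normal.conj_mem w hw.1 t
      rwa [inv_eq_of_mul_eq_one_right ht] at h2, cj_mem_normalizer ht hRinv hw.2⟩)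
  have hRP' : R ≤ P' := le_sup_left.trans (le_of_odd hP'odd le_sup_right
    (sup_le (le_inf hRA le_normalizer) hP'N)
    (hR2.to_sup_of_normal_left' hP'2 (hP'N.trans inf_le_right)))
  have hC0conj : ∀ p' ∈ P, ∀ w ∈ zpowers c0, p' * w * p'⁻¹ ∈ zpowers c0 := fun _ h _ h' => S.c_conj h h'
  have hPN : P.map (MulAut.conj n'⁻¹).toMonoidHom ≤ N' := by
    rintro _ ⟨p', hp', rfl⟩
    simp only [MulEquiv.coe_toMonoidHom, MulAut.conj_apply, inv_inv]
    refine ⟨(show n'⁻¹ * p' * n' ∈ A from mul_mem (mul_mem (inv_mem hn') (F.B.le hp')) hn'),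
      mem_normalizer_iff.2 fun w => ?_⟩
    have key : ∀ p'' ∈ P, ∀ v ∈ R, (n'⁻¹ * p'' * n') * v * (n'⁻¹ * p'' * n')⁻¹ ∈ R := by
      intro p'' hp'' v hv
      obtain ⟨k, rfl⟩ := mem_zpowers_iff.1 (hRρ hv)
      rw [← conj_zpow]
      refine zpow_mem ?_ k
      obtain ⟨k', hk'⟩ := hC0conj p'' hp'' c0 (mem_zpowers _)
      have hk'' : c0 ^ k' = p'' * c0 * p''⁻¹ := hk'
      have : n'⁻¹ * p'' * n' * ρ * (n'⁻¹ * p'' * n')⁻¹ = ρ ^ k' := by
        rw [hρ, show n'⁻¹ * p'' * n' * (n'⁻¹ * c0 * n') * (n'⁻¹ * p'' * n')⁻¹ =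
          n'⁻¹ * (p'' * c0 * p''⁻¹) * n'⁻¹⁻¹ by group, ← hk'', ← conj_zpow, inv_inv]
      rw [this]; exact zpow_mem hρR k'
    constructor
    · exact key p' hp' w
    · intro h
      have := key p'⁻¹ (inv_mem hp') _ h
      rwa [show n'⁻¹ * p'⁻¹ * n' * (n'⁻¹ * p' * n' * w * (n'⁻¹ * p' * n')⁻¹) *
        (n'⁻¹ * p'⁻¹ * n')⁻¹ = w by group] at this
  obtain ⟨m, hmN, hmP⟩ := FourRankOne.conj_into hP'N hP'2 hP'odd hPN (F.B.two.map _)
  set k := m * n'⁻¹ with hk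
  have hkA : k ∈ A := mul_mem hmN.1 (inv_mem hn')
  have hkP : ∀ p' ∈ P, k * p' * k⁻¹ ∈ P' := by
    intro p' hp'
    rw [show k * p' * k⁻¹ = m * (n'⁻¹ * p' * n'⁻¹⁻¹) * m⁻¹ by rw [hk]; group]
    exact hmP _ (conj_mem_map hp')
  have hP'A : P' ≤ A := hP'N.trans inf_le_left
  have hmap : P.map (MulAut.conj k).toMonoidHom = P' := by
    refine eq_of_le_of_card_ge (by rintro _ ⟨p', hp', rfl⟩; exact hkP p' hp') ?_
    rw [card_map_of_injective (MulAut.conj k).injective]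
    obtain ⟨e', he', hP'e⟩ := F.B.into hP'2 hP'A
    rw [← card_map_of_injective (f := (MulAut.conj e').toMonoidHom) (MulAut.conj e').injective
      (K := P')]
    exact card_le_of_le (by rintro _ ⟨p', hp', rfl⟩; exact hP'e p' hp')
  have hback : ∀ {w : G}, w ∈ P' → ∃ p' ∈ P, k * p' * k⁻¹ = w := fun hw => by
    rw [← hmap] at hw
    obtain ⟨p', hp', he'⟩ := hw
    exact ⟨p', hp', he'⟩
  have hinvR : ∀ w ∈ R, w * w = 1 → w ≠ 1 → w = z := by
    intro w hw h1 h2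
    obtain ⟨a, rfl⟩ := mem_zpowers_iff.1 (hRρ hw)
    have hρa : ∀ a : ℤ, ρ ^ a = n'⁻¹ * c0 ^ a * n' := fun a => by
      rw [hρ, show n'⁻¹ * c0 * n' = n'⁻¹ * c0 * n'⁻¹⁻¹ by rw [inv_inv], conj_zpow, inv_inv]
    rw [hρa] at h1 h2 ⊢
    have h3 := hC0inv (c0 ^ a) (zpow_mem (mem_zpowers _) a) (by
      have h4 := congrArg (fun v => n' * v * n'⁻¹) h1
      simpa [mul_assoc] using h4) (fun h => h2 (by rw [h]; group))
    have hzn' : n' * z * n'⁻¹ = z := hzn
    rw [h3]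
    calc n'⁻¹ * z * n' = n'⁻¹ * (n' * z * n'⁻¹) * n' := by rw [hzn']
      _ = z := by group
  have hkC : ∀ w ∈ zpowers c0, k * w * k⁻¹ ∈ R := by
    rintro w ⟨a, rfl⟩
    show k * c0 ^ a * k⁻¹ ∈ R
    rw [← conj_zpow]
    refine zpow_mem ?_ a
    rw [show k * c0 * k⁻¹ = m * ρ * m⁻¹ by rw [hk, hρ]; group]
    exact (mem_normalizer_iff.1 hmN.2 ρ).1 hρR
  have hkz : k * z * k⁻¹ = z :=
    hinvR _ (hkC z (hz2q ▸ hgC _)) (by rw [conj_mul, hzz, mul_one, mul_inv_cancel])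
      (fun h => F.B.z_ne (conj_eq_one_iff.1 h))
  have B' : Base A t P' x := ⟨F.B.cfg, hP'A, hP'2, by
    have h1 := relIndex_mul_relIndex ⊥ P A bot_le F.B.le
    have h2 := relIndex_mul_relIndex ⊥ P' A bot_le hP'A
    simp only [relIndex_bot_left] at h1 h2
    have h3 : Nat.card P' = Nat.card P := by
      rw [← hmap, card_map_of_injective (MulAut.conj k).injective]
    rw [h3] at h2
    rw [Nat.eq_of_mul_eq_mul_left Nat.card_pos (h2.trans h1.symm)]
    exact F.B.odd, hP'inv, hRP' hxR, F.B.hxt, F.B.hx4⟩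
  set h := k * i * k⁻¹ with hh'
  have hhh : h * h = 1 := by rw [hh', conj_mul, F.hii, mul_one, mul_inv_cancel]
  have hh1 : h ≠ 1 := fun e => hi1 (conj_eq_one_iff.1 e)
  have hhz : h ≠ z := fun e => F.hiz (mul_left_cancel (mul_right_cancel
    ((hh'.symm.trans e).trans hkz.symm)))
  -- `x` moves `h`
  have hxh : x * h * x⁻¹ = h * z := by
    obtain ⟨y, hyP, hy⟩ := hback (hRP' hxR)
    have hysq : y * y = z := mul_left_cancel (mul_right_cancel (by
      rw [← conj_mul, hy, hkz, hz] : k * (y * y) * k⁻¹ = k * z * k⁻¹))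
    obtain ⟨b, hb⟩ : ∃ b : ℤ, y = F.g ^ b := by
      obtain ⟨b, h1 | h1 | h1 | h1⟩ := hP y hyP
      · exact ⟨b, h1⟩
      · exact absurd (hysq.symm.trans (h1 ▸ F.ig_sq b)) F.B.z_ne
      · -- `x g^b` does not lie in the image of `R`
        exfalso
        obtain ⟨a, ha⟩ := mem_zpowers_iff.1 (hRρ hxR)
        have hyC : y ∈ zpowers c0 := by
          have h2 : n' * (m⁻¹ * x * m) * n'⁻¹ = y := by rw [← hy, hk]; group
          have h3 : m⁻¹ * x * m ∈ R := (mem_normalizer_iff.1 hmN.2 _).2 (by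
            rw [show m * (m⁻¹ * x * m) * m⁻¹ = x by group]; exact hxR)
          obtain ⟨a', ha'⟩ := mem_zpowers_iff.1 (hRρ h3)
          rw [← h2, ← ha', hρ, show n'⁻¹ * c0 * n' = n'⁻¹ * c0 * n'⁻¹⁻¹ by rw [inv_inv], conj_zpow]
          exact ⟨a', by show c0 ^ a' = _; group⟩
        obtain ⟨b', h2 | h2⟩ := hC0forms y hyC
        · rw [h2] at h1
          refine F.x_notMem ?_
          have e : x = F.g ^ b' * (F.g ^ b)⁻¹ := by rw [h1, mul_inv_cancel_right]
          have hmem : F.g ^ b' * (F.g ^ b)⁻¹ ∈ F.D := mul_mem (F.mem_g _) (inv_mem (F.mem_g _))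
          convert hmem using 1
        · rw [h2, hcsq] at hysq
          refine F.odd_ne_z (j0 + b') ?_
          rw [show 2 * (j0 + b') + 1 = r + 2 * b' by rw [hrj]; ring]
          exact hysq
      · exfalso
        rw [h1, hcsq] at hysq
        refine F.odd_ne_z (j0 + b) ?_
        rw [show 2 * (j0 + b) + 1 = r + 2 * b by rw [hrj]; ring]
        exact hysq
    have h1 : y * i * y⁻¹ = i * z := by
      rw [hb, F.g_i, ← zpow_neg, mul_assoc, ← zpow_add,
        show -b + -b = -(b + b) by ring, zpow_neg, zpow_add, ← hb, hysq, F.B.z_inv]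
    rw [hh', ← hy, show k * y * k⁻¹ * (k * i * k⁻¹) * (k * y * k⁻¹)⁻¹ = k * (y * i * y⁻¹) * k⁻¹ by
      group, h1, ← conj_mul, hkz]
  have hch : cj t h = h * z := by
    obtain ⟨p', hp'P, hp'⟩ := hback (hP'inv h (hkP i F.hi))
    have hp'2 : p' * p' = 1 := by
      have h1 : cj t h * cj t h = 1 := by rw [← cj_mul ht, hhh, cj_one ht]
      rw [← hp', conj_mul, conj_eq_one_iff] at h1
      exact h1
    obtain ⟨b, hb⟩ := S.invol hp'P hp'2
      (fun e => hh1 (cj_inj ht (by rw [← hp', e, mul_one, mul_inv_cancel, cj_one ht])))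
      (fun e => hhz (cj_inj ht (by rw [← hp', e, hkz, F.B.cj_z])))
    set w := k * F.g ^ b * k⁻¹ with hw
    have hch' : cj t h = h * w := by rw [← hp', hb, hh', hw, conj_mul]
    have hwfix : cj t w = w := by
      obtain ⟨a, ha⟩ : ∃ a : ℤ, F.g ^ b = c0 ^ a * c0 ^ a := ⟨r * b, by
        rw [← zpow_add, ← two_mul, zpow_mul, zpow_two, hr, ← zpow_mul, ← mul_assoc, zpow_mul, hrr]⟩
      rw [hw, ha, ← conj_mul]
      exact hsqfix _ (hkC _ (zpow_mem (mem_zpowers _) a))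
    have hww : w * w = 1 := by
      have h1 : cj t (cj t h) = h := cj_cj ht h
      rw [hch', cj_mul ht, hwfix, hch', mul_assoc] at h1
      exact mul_eq_left.1 h1
    rw [hw, conj_mul, conj_eq_one_iff] at hww
    rcases F.sq_one hww with h1 | h1
    · exfalso
      have hfix : cj t h = h := by rw [hch', hw, h1, mul_one, mul_inv_cancel, mul_one]
      rcases B'.invol_fix (hkP i F.hi) hfix hhh with h2 | h2
      exacts [hh1 h2, hhz h2]
    · rw [hch', hw, h1, hkz]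
  refine B'.false_of_moved (hkP i F.hi) hhh hch hxh (S.fused_z.trans ⟨k, hkA, rfl⟩) ?_
  intro a ha haa ha1 haz b hb hab
  obtain ⟨a', ha', rfl⟩ := hback ha
  obtain ⟨b', hb', rfl⟩ := hback hb
  rw [conj_mul, conj_eq_one_iff] at haa
  obtain ⟨ma, rfl⟩ := S.invol ha' haa
    (fun e => ha1 (by rw [e, mul_one, mul_inv_cancel])) (fun e => haz (by rw [e, hkz]))
  have hab' : Commute (i * F.g ^ ma) b' := by
    have h1 := hab.eq
    rw [conj_mul, conj_mul] at h1
    exact mul_left_cancel (mul_right_cancel h1)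
  have h4 : b' = 1 ∨ b' = z ∨ b' = i * F.g ^ ma ∨ b' = z * (i * F.g ^ ma) := by
    have h1 : b' * (i * F.g ^ ma) * b'⁻¹ = i * F.g ^ ma := by rw [← hab'.eq, mul_inv_cancel_right]
    obtain ⟨b, rfl | rfl | rfl | rfl⟩ := hP b' hb'
    · rw [hgig, mul_right_inj] at h1
      have h2 : F.g ^ b * F.g ^ b = 1 := by
        rw [← zpow_add, show b + b = ma - (ma - 2 * b) by ring, zpow_sub, h1, mul_inv_cancel]
      rcases F.sq_one h2 with h3 | h3
      exacts [Or.inl h3, Or.inr (Or.inl h3)]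
    · rw [show i * F.g ^ b * (i * F.g ^ ma) * (i * F.g ^ b)⁻¹ =
        i * (F.g ^ b * (i * F.g ^ ma) * (F.g ^ b)⁻¹) * i⁻¹ by group, hgig, ← mul_assoc, F.hii,
        one_mul, F.i_inv, F.g_i, mul_right_inj] at h1
      have h2 : F.g ^ (b - ma) * F.g ^ (b - ma) = 1 := by
        rw [← zpow_add, show b - ma + (b - ma) = -(ma - 2 * b) - ma by ring, zpow_sub, h1,
          mul_inv_cancel]
      have h5 : i * F.g ^ b = F.g ^ (b - ma) * 1 * (i * F.g ^ ma) ∨
          i * F.g ^ b = i * F.g ^ ma * F.g ^ (b - ma) :=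
        Or.inr (by rw [mul_assoc, ← zpow_add, add_sub_cancel])
      rcases F.sq_one h2 with h3 | h3
      · refine Or.inr (Or.inr (Or.inl ?_))
        rw [mul_right_inj, show b = ma + (b - ma) by ring, zpow_add, h3, mul_one]
      · refine Or.inr (Or.inr (Or.inr ?_))
        replace h3 : F.g ^ (b - ma) = z := h3
        rw [(hzc _ (mul_mem F.hi (zpow_mem F.g_mem ma))).eq, mul_assoc, ← h3, ← zpow_add,
          add_sub_cancel]
    · exfalso
      rw [show x * F.g ^ b * (i * F.g ^ ma) * (x * F.g ^ b)⁻¹ =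
        x * (F.g ^ b * (i * F.g ^ ma) * (F.g ^ b)⁻¹) * x⁻¹ by group, hgig, hxig, mul_right_inj] at h1
      refine F.odd_ne_one (s0 + b - ma) ?_
      rw [show 2 * (s0 + b - ma) + 1 = (s - (ma - 2 * b)) - ma by rw [hs0]; ring, zpow_sub, h1,
        mul_inv_cancel]
    · exfalso
      rw [show c0 * F.g ^ b * (i * F.g ^ ma) * (c0 * F.g ^ b)⁻¹ =
        c0 * (F.g ^ b * (i * F.g ^ ma) * (F.g ^ b)⁻¹) * c0⁻¹ by group, hgig, hcig, mul_right_inj] at h1
      refine F.odd_ne_one (s0 - b) ?_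
      rw [show 2 * (s0 - b) + 1 = (s + (ma - 2 * b)) - ma by rw [hs0]; ring, zpow_sub, h1,
        mul_inv_cancel]
  rcases h4 with rfl | rfl | rfl | rfl
  · exact Or.inl (by rw [mul_one, mul_inv_cancel])
  · exact Or.inr (Or.inl hkz)
  · exact Or.inr (Or.inr (Or.inl rfl))
  · exact Or.inr (Or.inr (Or.inr (by rw [← conj_mul, hkz])))

end Semi

theorem beta {e : G} (he : e = 1 ∨ e = x * x) (hxi : x * i * x⁻¹ = i * F.g * e)
    (hxg : x * F.g * x⁻¹ = F.g⁻¹) : False := by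
  obtain ⟨s, r, s0, j0, S⟩ := F.semi_of he hxi hxg
  exact S.false_of_semi

end Frame

end CfsgLib.InvolFixFour
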