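import Cfsg.Agent.S0215
import Cfsg.Agent.S0205
import Cfsg.Agent.S0949

/-!
Perfect groups whose solvable normal subgroups are central: Z* and homocyclic Sylow subgroups.
-/

set_option autoImplicit false
set_option linter.unusedSectionVars false
set_option linter.style.haveILetI false

namespace CfsgLib.InvolFixFour

open Subgroup
open scoped commutatorElement

/-- Perfect, and all solvable normal subgroups are central. -/
structure Semis (H : Type*) [Group H] : Prop where
  perf : commutator H = ⊤
  solv : ∀ N : Subgroup H, N.Normal → Group.IsSolvable N → N ≤ center H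

namespace Semis

variable {H : Type*} [Group H] [Finite H] (S : Semis H)
include S

/-- An element all whose commutators are central is central. -/
theorem mem_center_of_comm {w : H} (h : ∀ a, w * a * w⁻¹ * a⁻¹ ∈ center H) : w ∈ center H := by
  have hle : commutator H ≤ centralizer ({w} : Set H) := by
    rw [commutator_def, commutator_le]
    intro a _ b _
    rw [mem_centralizer_singleton_iff]
    have ha := mem_center_iff.1 (h a)
    have hb := mem_center_iff.1 (h b)
    set c := w * a * w⁻¹ * a⁻¹
    set d := w * b * w⁻¹ * b⁻¹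
    have h1 : w * ⁅a, b⁆ * w⁻¹ = ⁅a, b⁆ := by
      calc w * ⁅a, b⁆ * w⁻¹ = c * a * (d * b) * (c * a)⁻¹ * (d * b)⁻¹ := by
            simp only [c, d, commutatorElement_def]; group
        _ = a * (d * b) * a⁻¹ * (d * b)⁻¹ := by
            rw [mul_inv_rev c a, show c * a * (d * b) * (a⁻¹ * c⁻¹) = c * (a * (d * b) * a⁻¹) * c⁻¹ by
              group, ← ha (a * (d * b) * a⁻¹), mul_inv_cancel_right]
        _ = d * (a * b * a⁻¹ * b⁻¹) * d⁻¹ := by rw [← mul_assoc a d b, hb a]; group
        _ = ⁅a, b⁆ := by rw [← hb (a * b * a⁻¹ * b⁻¹), mul_inv_cancel_right, commutatorElement_def]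
    exact (mul_inv_eq_iff_eq_mul.1 h1).symm
  rw [S.perf] at hle
  exact mem_center_iff.2 fun g => mem_centralizer_singleton_iff.1 (hle (mem_top g))

/-- Quotients by central subgroups inherit the hypotheses. -/
theorem quot {Z : Subgroup H} [Z.Normal] (hZ : Z ≤ center H) : Semis (H ⧸ Z) := by
  refine ⟨?_, fun N hN hs => ?_⟩
  · rw [commutator_def, ← map_top_of_surjective (QuotientGroup.mk' Z)
      (QuotientGroup.mk'_surjective Z), ← map_commutator, ← commutator_def, S.perf]
  · haveI := hN
    set M := N.comap (QuotientGroup.mk' Z) with hM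
    haveI := hs
    have hMs : Group.IsSolvable M := by
      haveI hZs : Group.IsSolvable Z :=
        Group.isSolvable_of_comm fun a b => Subtype.ext (mem_center_iff.1 (hZ b.2) a)
      refine Group.isSolvable_of_ker_le_range (G' := Z) (G'' := N)
        (inclusion (fun z hz => by
          rw [hM, mem_comap, QuotientGroup.mk'_apply, (QuotientGroup.eq_one_iff z).2 hz]
          exact one_mem N))
        (((QuotientGroup.mk' Z).comp M.subtype).codRestrict N fun m => m.2) ?_
      intro m hm
      have h1 : QuotientGroup.mk' Z m = 1 := congrArg Subtype.val (MonoidHom.mem_ker.1 hm)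
      exact ⟨⟨m, (QuotientGroup.eq_one_iff _).1 h1⟩, rfl⟩
    intro n hn
    obtain ⟨m, rfl⟩ := QuotientGroup.mk_surjective n
    have hmc := mem_center_iff.1 (S.solv M inferInstance hMs (show m ∈ M from hn))
    refine mem_center_iff.2 fun g => ?_
    obtain ⟨g, rfl⟩ := QuotientGroup.mk_surjective g
    rw [← QuotientGroup.mk_mul, ← QuotientGroup.mk_mul, hmc g]

theorem odd_le_center {N : Subgroup H} (hN : N.Normal) (ho : Odd (Nat.card N)) : N ≤ center H :=
  S.solv N hN (Cfsg.Agent.S0205.result ho)

/-- Glauberman's theorem: an isolated involution is central. -/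
theorem center_of_isolated (P : Sylow 2 H) {z : H} (hz : z * z = 1) (hz1 : z ≠ 1) (hzP : z ∈ P)
    (hiso : ∀ g : H, g * z * g⁻¹ ∈ P → g * z * g⁻¹ = z) : z ∈ center H := by
  haveI : Fact (Nat.Prime 2) := ⟨Nat.prime_two⟩
  obtain ⟨N, hN, ho, hc⟩ := Cfsg.Agent.S0215.result P z
    (orderOf_eq_prime (by rw [sq, hz]) hz1) hzP hiso
  exact S.mem_center_of_comm fun a => S.odd_le_center hN ho (hc a)

/-- A perfect group has no homocyclic Sylow 2-subgroup of exponent 4. -/
theorem false_of_homocyclic (P : Sylow 2 H)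
    (e : Nonempty ((P : Subgroup H) ≃* Multiplicative (ZMod (2 ^ 2) × ZMod (2 ^ 2)))) : False := by
  classical
  haveI : Fact (Nat.Prime 2) := ⟨Nat.prime_two⟩
  obtain ⟨e⟩ := e
  haveI : Fintype (Subgroup H) := Fintype.ofFinite _
  obtain ⟨N, hN, hmax⟩ := Finset.exists_max_image
    ({K : Subgroup H | K.Normal ∧ Odd (Nat.card K)} : Finset _) (fun K => Nat.card K)
    ⟨⊥, by simp only [Finset.mem_filter, Finset.mem_univ, true_and]; exact ⟨inferInstance, by simp⟩⟩
  simp only [Finset.mem_filter, Finset.mem_univ, true_and] at hN hmax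
  haveI := hN.1
  set π := QuotientGroup.mk' N with hπ
  have S' := S.quot (S.odd_le_center hN.1 hN.2)
  set Pb := P.mapSurjective (QuotientGroup.mk'_surjective N) with hPb
  have hinj : Function.Injective ((π.comp (P : Subgroup H).subtype).rangeRestrict) := by
    rw [injective_iff_map_eq_one]
    intro p hp
    have h1 : (p : H) ∈ N := (QuotientGroup.eq_one_iff _).1 (congrArg Subtype.val hp)
    obtain ⟨k, hk⟩ := P.isPGroup' p
    have h2 : orderOf (p : H) ∣ 2 ^ k :=
      orderOf_dvd_of_pow_eq_one (congrArg Subtype.val hk)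
    have h3 : orderOf (p : H) ∣ Nat.card N := N.orderOf_dvd_natCard h1
    have hco : Nat.Coprime (2 ^ k) (Nat.card N) :=
      Nat.Coprime.pow_left k (Nat.coprime_two_left.2 hN.2)
    have h4 : orderOf (p : H) = 1 := Nat.eq_one_of_dvd_coprimes hco h2 h3
    exact Subtype.ext (orderOf_eq_one_iff.1 h4)
  have hrange : (π.comp (P : Subgroup H).subtype).range = (Pb : Subgroup (H ⧸ N)) := by
    rw [MonoidHom.range_comp, range_subtype, hPb, Sylow.coe_mapSurjective]
  have e' : (Pb : Subgroup (H ⧸ N)) ≃* Multiplicative (ZMod (2 ^ 2) × ZMod (2 ^ 2)) :=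
    ((MulEquiv.subgroupCongr hrange.symm).trans
      (MulEquiv.ofBijective _ ⟨hinj, MonoidHom.rangeRestrict_surjective _⟩).symm).trans e
  have hO : ∀ M : Subgroup (H ⧸ N), M.Normal → Odd (Nat.card M) → M = ⊥ := by
    intro M hMn hMo
    haveI := hMn
    set K := M.comap π with hK
    have hNK : N ≤ K := fun n hn => by
      show π n ∈ M
      rw [hπ, QuotientGroup.mk'_apply, (QuotientGroup.eq_one_iff n).2 hn]
      exact one_mem M
    have hcard : Nat.card K = Nat.card M * Nat.card N := by
      let f : K →* M := (π.comp K.subtype).codRestrict M fun k => k.2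
      have hf : Function.Surjective f := fun ⟨m, hm⟩ => by
        obtain ⟨k, rfl⟩ := QuotientGroup.mk'_surjective N m
        exact ⟨⟨k, hm⟩, rfl⟩
      have hker : f.ker = N.subgroupOf K := by
        ext k
        rw [MonoidHom.mem_ker, mem_subgroupOf, ← QuotientGroup.eq_one_iff, Subtype.ext_iff]
        rfl
      rw [card_eq_card_quotient_mul_card_subgroup f.ker,
        Nat.card_congr (QuotientGroup.quotientKerEquivOfSurjective f hf).toEquiv, hker,
        Nat.card_congr (subgroupOfEquivOfLe hNK).toEquiv]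
    have hle := hmax K ⟨inferInstance, hcard ▸ hMo.mul hN.2⟩
    have hKN : N = K := eq_of_le_of_card_ge hNK hle
    refine (eq_bot_iff_forall M).2 fun m hm => ?_
    obtain ⟨k, rfl⟩ := QuotientGroup.mk'_surjective N m
    exact (QuotientGroup.eq_one_iff k).2 (hKN ▸ hm)
  obtain ⟨hPn, -, hi⟩ := Cfsg.Agent.S0949.result Pb 2 le_rfl e' hO
  haveI := hPn
  have hab : commutator (H ⧸ N) ≤ (Pb : Subgroup (H ⧸ N)) := by
    rcases hi with h | h
    · rw [index_eq_one.1 h]; exact le_top
    · refine Subgroup.Normal.quotient_commutative_iff_commutator_le.1 ?_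
      haveI : Fact (Nat.Prime 3) := ⟨Nat.prime_three⟩
      haveI : IsCyclic ((H ⧸ N) ⧸ (Pb : Subgroup (H ⧸ N))) :=
        isCyclic_of_prime_card (p := 3) (by rw [← index_eq_card, h])
      exact IsCyclic.isMulCommutative
  rw [S'.perf, top_le_iff] at hab
  have hcomm : ∀ a b : H ⧸ N, a * b = b * a := fun a b => congrArg Subtype.val
    (e'.injective (by simp only [map_mul]; exact mul_comm _ _) :
      (⟨a, hab ▸ mem_top a⟩ : (Pb : Subgroup (H ⧸ N))) * ⟨b, hab ▸ mem_top b⟩ =
        ⟨b, hab ▸ mem_top b⟩ * ⟨a, hab ▸ mem_top a⟩)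
  have hbot : commutator (H ⧸ N) = ⊥ := by
    rw [commutator_def, eq_bot_iff, commutator_le]
    intro a _ b _
    rw [mem_bot, commutatorElement_eq_one_iff_mul_comm]
    exact hcomm a b
  rw [S'.perf] at hbot
  have hm : e'.symm (Multiplicative.ofAdd (1, 0)) = 1 := Subtype.ext (by
    have := hbot ▸ mem_top ((e'.symm (Multiplicative.ofAdd (1, 0)) : H ⧸ N))
    exact mem_bot.1 this)
  exact absurd (congrArg e' hm) (by rw [MulEquiv.apply_symm_apply, map_one]; decide)

end Semis

end CfsgLib.InvolFixFour
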