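import Cfsg.Agent.InvolFixFour.Moved

/-!
The dihedral group generated by an involution and its image under `t`.
-/

set_option autoImplicit false
set_option linter.unusedSectionVars false
set_option linter.style.haveILetI false

namespace CfsgLib.InvolFixFour

open Subgroup

variable {G : Type*} [Group G] [Finite G] {A : Subgroup G} {t : G}

/-- Extension of `H` by an element normalising it with square in it. -/
def ext (H : Subgroup G) (v : G) (hv : v * v ∈ H) (hn : ∀ h ∈ H, v * h * v⁻¹ ∈ H) : Subgroup G where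
  carrier := {p | p ∈ H ∨ v * p ∈ H}
  one_mem' := Or.inl (one_mem H)
  mul_mem' := by
    have hn' : ∀ h ∈ H, v⁻¹ * h * v ∈ H := fun h hh => by
      have := hn _ (mul_mem (mul_mem (inv_mem hv) hh) hv)
      rwa [show v * ((v * v)⁻¹ * h * (v * v)) * v⁻¹ = v⁻¹ * h * v by group] at this
    rintro p q (hp | hp) (hq | hq)
    · exact Or.inl (mul_mem hp hq)
    · refine Or.inr ?_
      rw [show v * (p * q) = v * p * v⁻¹ * (v * q) by group]
      exact mul_mem (hn p hp) hq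
    · exact Or.inr (by rw [← mul_assoc]; exact mul_mem hp hq)
    · refine Or.inl ?_
      rw [show p * q = v⁻¹ * (v * p) * v * (v * v)⁻¹ * (v * q) by group]
      exact mul_mem (mul_mem (hn' _ hp) (inv_mem hv)) hq
  inv_mem' := by
    rintro p (hp | hp)
    · exact Or.inl (inv_mem hp)
    · refine Or.inr ?_
      rw [show v * p⁻¹ = v * (v * p)⁻¹ * v⁻¹ * (v * v) by group]
      exact mul_mem (hn _ (inv_mem hp)) hv

theorem mem_ext {H : Subgroup G} {v : G} {hv : v * v ∈ H} {hn : ∀ h ∈ H, v * h * v⁻¹ ∈ H} {p : G} :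
    p ∈ ext H v hv hn ↔ p ∈ H ∨ v * p ∈ H := Iff.rfl

theorem le_ext {H : Subgroup G} {v : G} {hv : v * v ∈ H} {hn : ∀ h ∈ H, v * h * v⁻¹ ∈ H} :
    H ≤ ext H v hv hn := fun _ h => Or.inl h

/-- An involution `i` whose image under `t` is neither `i` nor `i z`. -/
structure Frame (A : Subgroup G) (t : G) (P : Subgroup G) (x i : G) : Prop where
  B : Base A t P x
  hi : i ∈ P
  hii : i * i = 1
  hiz : i ≠ x * x
  hne : cj t i ≠ i
  hni : cj t i ≠ i * (x * x)

namespace Frame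

variable {P : Subgroup G} {x i : G} (F : Frame A t P x i)

/-- The product of the two involutions. -/
def g (_F : Frame A t P x i) : G := i * cj t i

include F

theorem tt : t * t = 1 := F.B.tt

theorem i_inv : i⁻¹ = i := inv_eq_of_mul_eq_one_right F.hii

theorem cj_i : cj t i = i * F.g := by rw [g, ← mul_assoc, F.hii, one_mul]

theorem g_mem : F.g ∈ P := mul_mem F.hi (F.B.inv _ F.hi)

theorem cj_ii : cj t i * cj t i = 1 := by rw [← cj_mul F.tt, F.hii, cj_one F.tt]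

theorem cj_g : cj t F.g = F.g⁻¹ := by
  rw [g, cj_mul F.tt, cj_cj F.tt, mul_inv_rev, F.i_inv, inv_eq_of_mul_eq_one_right F.cj_ii]

theorem conj_g (m : ℤ) : i * F.g ^ m * i⁻¹ = F.g ^ (-m) := by
  rw [← conj_zpow, zpow_neg, ← inv_zpow]
  congr 1
  rw [g, mul_inv_rev, inv_eq_of_mul_eq_one_right F.cj_ii, F.i_inv, ← mul_assoc, F.hii, one_mul]

theorem g_i (m : ℤ) : F.g ^ m * i = i * F.g ^ (-m) := by
  rw [← F.conj_g, F.i_inv, ← mul_assoc, ← mul_assoc, F.hii, one_mul]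

theorem cj_gz (m : ℤ) : cj t (F.g ^ m) = F.g ^ (-m) := by
  rw [cj_zpow F.tt, F.cj_g, inv_zpow, zpow_neg]

theorem cj_igz (m : ℤ) : cj t (i * F.g ^ m) = i * F.g ^ (1 - m) := by
  rw [cj_mul F.tt, F.cj_i, F.cj_gz, mul_assoc]
  congr 1
  rw [← zpow_one_add, sub_eq_add_neg]

theorem ig_sq (m : ℤ) : i * F.g ^ m * (i * F.g ^ m) = 1 := by
  rw [mul_assoc, ← mul_assoc (F.g ^ m), F.g_i, mul_assoc, ← zpow_add, neg_add_cancel, zpow_zero,
    mul_one, F.hii]

theorem ig_inv (m : ℤ) : (i * F.g ^ m)⁻¹ = i * F.g ^ m := inv_eq_of_mul_eq_one_right (F.ig_sq m)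

theorem sq_one {m : ℤ} (h : F.g ^ m * F.g ^ m = 1) : F.g ^ m = 1 ∨ F.g ^ m = x * x :=
  F.B.invol_fix (zpow_mem F.g_mem m)
    (by rw [F.cj_gz, zpow_neg]; exact inv_eq_of_mul_eq_one_right h) h

theorem order_pow : ∃ K : ℕ, orderOf F.g = 2 ^ K := by
  obtain ⟨K, hK⟩ := F.B.two ⟨F.g, F.g_mem⟩
  have h : F.g ^ 2 ^ K = 1 := congrArg Subtype.val hK
  obtain ⟨j, -, hj⟩ := (Nat.dvd_prime_pow Nat.prime_two).1 (orderOf_dvd_of_pow_eq_one h)
  exact ⟨j, hj⟩

theorem four_dvd : 4 ∣ orderOf F.g := by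
  obtain ⟨K, hK⟩ := F.order_pow
  have h2 : F.g * F.g ≠ 1 := fun h => by
    have hs := F.sq_one (m := 1) (by simpa using h)
    rw [zpow_one] at hs
    rcases hs with h1 | h1
    · exact F.hne (by rw [F.cj_i, h1, mul_one])
    · exact F.hni (by rw [F.cj_i, h1])
  rcases K with _ | _ | K
  · rw [pow_zero, orderOf_eq_one_iff] at hK
    exact absurd (by rw [hK, one_mul]) h2
  · exact absurd (by rw [← sq, show (2 : ℕ) = orderOf F.g by simpa using hK.symm,
      pow_orderOf_eq_one]) h2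
  · exact ⟨2 ^ K, by rw [hK]; ring⟩

theorem order_eq : orderOf F.g = 4 * (orderOf F.g / 4) := (Nat.mul_div_cancel' F.four_dvd).symm

/-- A square root of `z` in `⟨g⟩`. -/
theorem z_eq : F.g ^ (2 * ((orderOf F.g / 4 : ℕ) : ℤ)) = x * x := by
  have hq : 0 < orderOf F.g / 4 :=
    Nat.div_pos (Nat.le_of_dvd (orderOf_pos _) F.four_dvd) (by norm_num)
  have hord := F.order_eq
  set q := orderOf F.g / 4
  refine (F.sq_one ?_).resolve_left fun h => ?_
  · rw [← zpow_add, show (2 * (q : ℤ) + 2 * q) = ((4 * q : ℕ) : ℤ) by push_cast; ring, ← hord,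
      zpow_natCast, pow_orderOf_eq_one]
  · rw [show (2 * (q : ℤ)) = ((2 * q : ℕ) : ℤ) by push_cast; ring, zpow_natCast] at h
    have := Nat.le_of_dvd (by omega) (orderOf_dvd_of_pow_eq_one h)
    omega

theorem cancel_odd {n j : ℤ} (h : F.g ^ (n * (2 * j + 1)) = 1) : F.g ^ n = 1 := by
  obtain ⟨K, hK⟩ := F.order_pow
  rw [← orderOf_dvd_iff_zpow_eq_one, hK] at h ⊢
  push_cast at h ⊢
  have hc : IsCoprime (2 : ℤ) (2 * j + 1) := ⟨-j, 1, by ring⟩
  exact hc.pow_left.dvd_of_dvd_mul_right h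

theorem odd_ne_one (j : ℤ) : F.g ^ (2 * j + 1) ≠ 1 := fun h => by
  have h1 := F.cancel_odd (n := 1) (j := j) (by rwa [one_mul])
  rw [zpow_one] at h1
  have := F.four_dvd
  rw [h1, orderOf_one] at this
  omega

theorem odd_ne_z (j : ℤ) : F.g ^ (2 * j + 1) ≠ x * x := fun h => by
  have h2 : F.g ^ (2 * (j - ((orderOf F.g / 4 : ℕ) : ℤ)) + 1) = 1 := by
    rw [show 2 * (j - ((orderOf F.g / 4 : ℕ) : ℤ)) + 1 =
      (2 * j + 1) - 2 * ((orderOf F.g / 4 : ℕ) : ℤ) by ring, zpow_sub, h, F.z_eq, mul_inv_cancel]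
  exact F.odd_ne_one _ h2

/-- The dihedral group `⟨i, cj i⟩`. -/
def D : Subgroup G where
  carrier := {p | ∃ m : ℤ, p = F.g ^ m ∨ p = i * F.g ^ m}
  one_mem' := ⟨0, Or.inl (zpow_zero _).symm⟩
  mul_mem' := by
    rintro p q ⟨a, rfl | rfl⟩ ⟨b, rfl | rfl⟩
    · exact ⟨a + b, Or.inl (zpow_add _ _ _).symm⟩
    · exact ⟨-a + b, Or.inr (by rw [← mul_assoc, F.g_i, mul_assoc, ← zpow_add])⟩
    · exact ⟨a + b, Or.inr (by rw [mul_assoc, ← zpow_add])⟩
    · exact ⟨-a + b, Or.inl (by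
        rw [mul_assoc i, ← mul_assoc (F.g ^ a), F.g_i, mul_assoc i, ← mul_assoc i i, F.hii, one_mul,
          ← zpow_add])⟩
  inv_mem' := by
    rintro p ⟨a, rfl | rfl⟩
    · exact ⟨-a, Or.inl (zpow_neg _ _).symm⟩
    · exact ⟨a, Or.inr (F.ig_inv a)⟩

theorem mem_g (m : ℤ) : F.g ^ m ∈ F.D := ⟨m, Or.inl rfl⟩

theorem mem_ig (m : ℤ) : i * F.g ^ m ∈ F.D := ⟨m, Or.inr rfl⟩

theorem D_le : F.D ≤ P := by
  rintro p ⟨m, rfl | rfl⟩
  exacts [zpow_mem F.g_mem m, mul_mem F.hi (zpow_mem F.g_mem m)]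

theorem D_inv : ∀ d ∈ F.D, cj t d ∈ F.D := by
  rintro p ⟨m, rfl | rfl⟩
  exacts [⟨-m, Or.inl (F.cj_gz m)⟩, ⟨1 - m, Or.inr (F.cj_igz m)⟩]

theorem D_fix {d : G} (hd : d ∈ F.D) (hc : cj t d = d) : d = 1 ∨ d = x * x := by
  obtain ⟨m, rfl | rfl⟩ := hd
  · rw [F.cj_gz, zpow_neg] at hc
    exact F.sq_one (mul_eq_one_iff_eq_inv.2 hc.symm)
  · exfalso
    rw [F.cj_igz, mul_right_inj] at hc
    refine F.odd_ne_one (-m) ?_
    rw [show 2 * -m + 1 = (1 - m) - m by ring, zpow_sub, hc, mul_inv_cancel]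

theorem x_notMem : x ∉ F.D := fun h => by
  rcases F.D_fix h F.B.hxt with h1 | h1
  · exact F.B.z_ne (by rw [h1, one_mul])
  · have h2 : x * 1 = x * x := by rw [mul_one]; exact h1
    exact F.B.z_ne (by rw [← mul_left_cancel h2, one_mul])

/-- Inverted powers of `g` are coboundaries. -/
theorem sol_g (m : ℤ) : ∃ e ∈ F.D, cj t e = e * F.g ^ m := by
  rcases Int.even_or_odd' m with ⟨l, rfl | rfl⟩
  · exact ⟨F.g ^ (-l), F.mem_g _, by
      rw [F.cj_gz, ← zpow_add, show -(-l) = -l + 2 * l by ring]⟩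
  · exact ⟨i * F.g ^ (-l), F.mem_ig _, by
      rw [F.cj_igz, mul_assoc, ← zpow_add, show 1 - -l = -l + (2 * l + 1) by ring]⟩

theorem ig_not_inverted (m : ℤ) : cj t (i * F.g ^ m) * (i * F.g ^ m) ≠ 1 := fun h => by
  rw [F.cj_igz, mul_assoc, ← mul_assoc (F.g ^ (1 - m)), F.g_i, mul_assoc i, ← mul_assoc i i, F.hii,
    one_mul, ← zpow_add] at h
  refine F.odd_ne_one (m - 1) ?_
  rwa [show 2 * (m - 1) + 1 = -(1 - m) + m by ring]

theorem x_norm : ∀ d ∈ F.D, x * d * x⁻¹ ∈ F.D := by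
  haveI : Fact (Nat.Prime 2) := ⟨Nat.prime_two⟩
  set E : Subgroup G := P ⊓ normalizer (F.D : Set G) with hE
  have hti : t⁻¹ = t := inv_eq_of_mul_eq_one_right F.tt
  have hxE : x ∈ E := by
    by_contra hx
    have hDE : F.D ≤ E := le_inf F.D_le le_normalizer
    have hEinv : ∀ q ∈ E, cj t q ∈ E := by
      intro q hq
      refine ⟨F.B.inv q hq.1, mem_normalizer_iff.2 fun d => ?_⟩
      have key : cj t (q * cj t d * q⁻¹) = cj t q * d * (cj t q)⁻¹ := by
        rw [cj_mul F.tt, cj_mul F.tt, cj_cj F.tt, cj_inv F.tt]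
      constructor
      · intro hd
        have := F.D_inv _ ((mem_normalizer_iff.1 hq.2 _).1 (F.D_inv d hd))
        rwa [key] at this
      · intro hd
        rw [← key] at hd
        have := F.D_inv _ hd
        rw [cj_cj F.tt] at this
        have := F.D_inv _ ((mem_normalizer_iff.1 hq.2 _).2 this)
        rwa [cj_cj F.tt] at this
    have heq : F.D = E := by
      refine eq_of_lift F.tt (F.B.two.to_le inf_le_left) hDE hEinv F.D_inv (fun q hq hc => ?_) ?_
      · rcases F.B.fix_mem hq.1 hc with h | h | h | h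
        · exact h ▸ one_mem _
        · exact absurd (h ▸ hq) hx
        · rw [h, ← F.z_eq]; exact F.mem_g _
        · exact absurd (inv_inv x ▸ inv_mem (h ▸ hq)) hx
      · intro q _ d hd hdd _
        obtain ⟨m, rfl | rfl⟩ := hd
        · exact F.sol_g m
        · exact absurd hdd (F.ig_not_inverted m)
    haveI : Group.IsNilpotent P := F.B.two.isNilpotent
    obtain ⟨⟨q, hqP⟩, hqN, hqD⟩ := SetLike.exists_of_lt
      (Group.normalizerCondition_of_isNilpotent (F.D.subgroupOf P) (lt_top_iff_ne_top.2 fun h =>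
        F.x_notMem (subgroupOf_eq_top.1 h F.B.hx)))
    suffices hqE : q ∈ E by
      rw [← heq] at hqE
      exact hqD hqE
    refine ⟨hqP, mem_normalizer_iff.2 fun d => ?_⟩
    constructor
    · intro hd
      exact (mem_normalizer_iff.1 hqN ⟨d, F.D_le hd⟩).1 hd
    · intro hd
      have hdP : d ∈ P := by
        have := mul_mem (mul_mem (inv_mem hqP) (F.D_le hd)) hqP
        rwa [show q⁻¹ * (q * d * q⁻¹) * q = d by group] at this
      exact (mem_normalizer_iff.1 hqN ⟨d, hdP⟩).2 hd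
  exact fun d hd => (mem_normalizer_iff.1 hxE.2 d).1 hd

/-- The action of `x` on the dihedral group. -/
theorem x_action : ∃ e, (e = 1 ∨ e = x * x) ∧
    ((x * i * x⁻¹ = i * e ∧ x * F.g * x⁻¹ = F.g) ∨
      (x * i * x⁻¹ = i * F.g * e ∧ x * F.g * x⁻¹ = F.g⁻¹)) := by
  obtain ⟨a, ha | ha⟩ := F.x_norm i (by simpa using F.mem_ig 0)
  · exfalso
    have hsq : F.g ^ a * F.g ^ a = 1 := by
      rw [← ha, conj_mul, F.hii, mul_one, mul_inv_cancel]
    have hxi : x * i * x⁻¹ = 1 ∨ x * i * x⁻¹ = x * x := ha ▸ F.sq_one hsq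
    rcases hxi with h | h
    · have h1 : i = 1 := conj_eq_one_iff.1 h
      exact F.hne (by rw [h1, cj_one F.tt])
    · refine F.hiz (mul_left_cancel (mul_right_cancel (h.trans ?_)))
      group
  · have hci : x * cj t i * x⁻¹ = i * F.g ^ (1 - a) := by
      rw [← F.cj_igz, ← ha, cj_mul F.tt, cj_mul F.tt, cj_inv F.tt, F.B.hxt]
    have hg : x * F.g * x⁻¹ = F.g ^ (1 - 2 * a) := by
      show x * (i * cj t i) * x⁻¹ = _
      rw [← conj_mul, ha, hci, mul_assoc, ← mul_assoc (F.g ^ a), F.g_i, mul_assoc i,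
        ← mul_assoc i i, F.hii, one_mul, ← zpow_add, show -a + (1 - a) = 1 - 2 * a by ring]
    have h2 : F.g ^ (a + (1 - 2 * a) * a) = 1 := by
      have h : i * F.g ^ (a + (1 - 2 * a) * a) = i := by
        calc i * F.g ^ (a + (1 - 2 * a) * a) = x * (i * F.g ^ a) * x⁻¹ := by
              rw [← conj_mul, ha, ← conj_zpow, hg, ← zpow_mul, mul_assoc, ← zpow_add]
          _ = x * x * i * (x * x)⁻¹ := by rw [← ha]; group
          _ = i := by rw [(F.B.z_central F.hi).eq, mul_inv_cancel_right]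
      exact mul_eq_left.1 h
    rcases Int.even_or_odd' a with ⟨b, hb | hb⟩
    · have h3 : F.g ^ (4 * b) = 1 := F.cancel_odd (n := 4 * b) (j := -b)
        (by rw [← h2, hb]; ring_nf)
      have he := F.sq_one (m := 2 * b) (by rw [← zpow_add, ← h3]; ring_nf)
      refine ⟨F.g ^ (2 * b), he, Or.inl ⟨by rw [ha, hb], ?_⟩⟩
      rw [hg, hb, show 1 - 2 * (2 * b) = 1 + -(4 * b) by ring, zpow_add, zpow_neg, h3, zpow_one,
        inv_one, mul_one]
    · have h3 : F.g ^ (4 * b) = 1 := F.cancel_odd (n := 4 * b) (j := b)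
        (by rw [← inv_inj, ← zpow_neg, inv_one, ← h2, hb]; ring_nf)
      have he := F.sq_one (m := 2 * b) (by rw [← zpow_add, ← h3]; ring_nf)
      refine ⟨F.g ^ (2 * b), he, Or.inr ⟨?_, ?_⟩⟩
      · rw [ha, hb, mul_assoc i, ← zpow_one_add, add_comm]
      · rw [hg, hb, show 1 - 2 * (2 * b + 1) = -1 + -(4 * b) by ring, zpow_add, zpow_neg _ (4 * b),
          h3, inv_one, mul_one, zpow_neg_one]

end Frame

end CfsgLib.InvolFixFour
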