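import Cfsg.Agent.InvolFixFour.Basic

/-!
Invariant Sylow subgroups and a transfer lemma for elements of order four.
-/

set_option autoImplicit false
set_option linter.unusedSectionVars false
set_option linter.style.haveILetI false
set_option linter.deprecated false

namespace CfsgLib.InvolFixFour

open Subgroup MulAction

variable {G : Type*} [Group G] [Finite G] {A : Subgroup G} {t : G}

/-- Normalisers of `t`-invariant subgroups are `t`-invariant. -/
theorem cj_mem_normalizer (ht : t * t = 1) {R : Subgroup G} (hR : ∀ r ∈ R, cj t r ∈ R) {q : G}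
    (hq : q ∈ normalizer (R : Set G)) : cj t q ∈ normalizer (R : Set G) := by
  refine mem_normalizer_iff.2 fun d => ?_
  have key : cj t (q * cj t d * q⁻¹) = cj t q * d * (cj t q)⁻¹ := by
    rw [cj_mul ht, cj_mul ht, cj_cj ht, cj_inv ht]
  constructor
  · intro hd
    have := hR _ ((mem_normalizer_iff.1 hq _).1 (hR d hd))
    rwa [key] at this
  · intro hd
    rw [← key] at hd
    have := hR _ hd
    rw [cj_cj ht] at this
    have := hR _ ((mem_normalizer_iff.1 hq _).2 this)
    rwa [cj_cj ht] at this

/-- A `t`-invariant subgroup has a `t`-invariant Sylow 2-subgroup. -/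
theorem exists_inv_sylow (ht : t * t = 1) (H : Subgroup G) (hH : ∀ h ∈ H, cj t h ∈ H) :
    ∃ R ≤ H, IsPGroup 2 R ∧ Odd (R.relIndex H) ∧ ∀ r ∈ R, cj t r ∈ R := by
  haveI : Fact (Nat.Prime 2) := ⟨Nat.prime_two⟩
  classical
  let f : H ≃* H :=
    { toFun := fun h => ⟨cj t h, hH h h.2⟩
      invFun := fun h => ⟨cj t h, hH h h.2⟩
      left_inv := fun h => Subtype.ext (cj_cj ht h)
      right_inv := fun h => Subtype.ext (cj_cj ht h)
      map_mul' := fun a b => Subtype.ext (cj_mul ht a b) }
  have hf : ∀ h : H, f (f h) = h := fun h => Subtype.ext (cj_cj ht h)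
  let σ : Sylow 2 H → Sylow 2 H := fun S => S.comapOfInjective f.toMonoidHom f.injective (by
    intro x _; exact ⟨f x, hf x⟩)
  have hσ : Function.Involutive σ := fun S => by
    apply Sylow.ext
    show ((S : Subgroup H).comap f.toMonoidHom).comap f.toMonoidHom = _
    ext x
    simp only [mem_comap, MulEquiv.coe_toMonoidHom, hf]
  haveI : Fintype (Sylow 2 H) := Fintype.ofFinite _
  obtain ⟨S, hS⟩ := Equiv.Perm.exists_fixed_point_of_prime (p := 2) (n := 1)
    (by rw [← Nat.card_eq_fintype_card]; exact not_dvd_card_sylow 2 H)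
    (σ := hσ.toPerm σ) (by rw [pow_one, sq]; exact Equiv.ext fun S => hσ S)
  refine ⟨(S : Subgroup H).map H.subtype, map_subtype_le _, S.isPGroup'.map _, ?_, ?_⟩
  · rw [relIndex, subgroupOf, comap_map_eq_self_of_injective H.subtype_injective,
      ← Nat.not_even_iff_odd, even_iff_two_dvd]
    exact S.not_dvd_index
  · rintro _ ⟨⟨r, hr⟩, hrS, rfl⟩
    refine ⟨⟨cj t r, hH r hr⟩, ?_, rfl⟩
    have : (⟨r, hr⟩ : H) ∈ ((σ S : Sylow 2 H) : Subgroup H) := by rw [show σ S = S from hS]; exact hrS
    exact this

/-- A 2-group containing a subgroup of odd index is that subgroup. -/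
theorem le_of_odd {R R' H : Subgroup G} (hodd : Odd (R.relIndex H)) (h : R ≤ R') (h' : R' ≤ H)
    (h2 : IsPGroup 2 R') : R' ≤ R := by
  haveI : Fact (Nat.Prime 2) := ⟨Nat.prime_two⟩
  have h1 : Odd (R.relIndex R') :=
    hodd.of_dvd_nat ⟨R'.relIndex H, (relIndex_mul_relIndex R R' H h h').symm⟩
  obtain ⟨k, hk⟩ := h2.index (R.subgroupOf R')
  rw [relIndex, hk] at h1
  rcases k with _ | k
  · exact subgroupOf_eq_top.1 (index_eq_one.1 (hk.trans (pow_zero 2)))
  · exact absurd h1 (by simp [Nat.pow_succ])

/-- Transfer to the quotient by a subgroup of index 2, at an element of order dividing 4. -/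
theorem thompson_transfer_four {X : Type*} [Group X] [Finite X] (P Q : Subgroup X) (hP : Odd P.index)
    (hQi : Q.relIndex P = 2) {u : X} (hu : u ^ 4 = 1) (hcon : ∀ g : X, g * u * g⁻¹ ∉ Q)
    (hsq : ∀ g : X, g * (u * u) * g⁻¹ ∈ P → g * (u * u) * g⁻¹ ∈ Q) :
    ∃ M : Subgroup X, M.Normal ∧ M.index = 2 ∧ u ∉ M := by
  classical
  set φ := ThompsonTransfer.parity (Q.subgroupOf P) hQi with hφ
  haveI : P.FiniteIndex := inferInstance
  set a : Multiplicative (ZMod 2) := Multiplicative.ofAdd 1 with ha
  have ha1 : a ≠ 1 := by decide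
  have ha2 : a * a = 1 := by decide
  have key : MonoidHom.transfer φ u = a := by
    haveI : Fintype (Quotient (orbitRel (zpowers u) (X ⧸ P))) := Fintype.ofFinite _
    rw [MonoidHom.transfer_eq_prod_quotient_orbitRel_zpowers_quot φ u]
    calc ∏ q : Quotient (orbitRel (zpowers u) (X ⧸ P)), _
        = ∏ q : Quotient (orbitRel (zpowers u) (X ⧸ P)), a ^ Function.minimalPeriod (u • ·) q.out := by
          refine Finset.prod_congr rfl fun q _ => ?_
          have hd : Function.minimalPeriod (u • ·) q.out ∣ 2 ^ 2 := by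
            refine Function.IsPeriodicPt.minimalPeriod_dvd ?_
            show (u • ·)^[2 ^ 2] q.out = q.out
            rw [smul_iterate_apply, show (2 : ℕ) ^ 2 = 4 from rfl, hu, one_smul]
          have hmemP : q.out.out⁻¹ * u ^ Function.minimalPeriod (u • ·) q.out * q.out.out ∈ P :=
            QuotientGroup.out_conj_pow_minimalPeriod_mem P u q.out
          obtain ⟨j, hj, e⟩ := (Nat.dvd_prime_pow Nat.prime_two).1 hd
          interval_cases j
          · refine (ThompsonTransfer.parity_apply_not_mem hQi fun hmem => ?_).trans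
              (by rw [e, pow_zero, pow_one])
            rw [mem_subgroupOf] at hmem
            simp only [e, pow_zero, pow_one] at hmem
            refine hcon (q.out.out)⁻¹ ?_
            rwa [inv_inv]
          · refine (ThompsonTransfer.parity_apply_mem hQi ?_).trans (by rw [e, pow_one, sq a, ha2])
            rw [mem_subgroupOf]
            simp only [e, pow_one] at hmemP ⊢
            rw [sq u] at hmemP ⊢
            have := hsq (q.out.out)⁻¹ (by rwa [inv_inv])
            rwa [inv_inv] at this
          · refine (ThompsonTransfer.parity_apply_mem hQi ?_).trans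
              (by rw [e, show (2 : ℕ) ^ 2 = 2 * 2 from rfl, pow_mul, sq a, ha2, one_pow])
            rw [mem_subgroupOf]
            simp [e, hu]
      _ = a ^ P.index := by rw [Finset.prod_pow_eq_pow_sum, ← index_eq_sum_minimalPeriod P u]
      _ = a := by
          obtain ⟨k, hk⟩ := hP
          rw [hk, pow_succ, pow_mul, sq, ha2, one_pow, one_mul]
  refine ⟨(MonoidHom.transfer φ).ker, inferInstance, ?_, fun h => ha1 (key ▸ MonoidHom.mem_ker.1 h)⟩
  rw [index_ker]
  have h2 : Nat.card (MonoidHom.transfer φ).range ∣ 2 := by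
    have h := (MonoidHom.transfer φ).range.card_subgroup_dvd_card
    rwa [show Nat.card (Multiplicative (ZMod 2)) = 2 by simp] at h
  refine ((Nat.dvd_prime Nat.prime_two).1 h2).resolve_left fun h => ha1 ?_
  have h3 : a ∈ (MonoidHom.transfer φ).range := ⟨u, key⟩
  rw [card_eq_one.1 h, mem_bot] at h3
  exact h3

namespace Base

variable {P : Subgroup G} {x : G} (B : Base A t P x)
include B

/-- Transfer at an element of order dividing 4. -/
theorem transfer_contra_four {Q : Subgroup G} (_hQP : Q ≤ P) (hQi : Q.relIndex P = 2) {u : G}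
    (hu : u ∈ P) (hu4 : u ^ 4 = 1) (h : ∀ n ∈ A, n * u * n⁻¹ ∉ Q)
    (h2 : ∀ n ∈ A, n * (u * u) * n⁻¹ ∈ P → n * (u * u) * n⁻¹ ∈ Q) : False := by
  have hrel : (Q.subgroupOf A).relIndex (P.subgroupOf A) = 2 := by
    rw [relIndex_subgroupOf B.le, hQi]
  obtain ⟨M, hMn, hM, huM⟩ := thompson_transfer_four (P.subgroupOf A) (Q.subgroupOf A) B.odd hrel
    (u := ⟨u, B.le hu⟩) (Subtype.ext (by simpa using hu4))
    (fun g hg => h g g.2 (by simpa [mem_subgroupOf] using hg))
    (fun g hg => by simpa [mem_subgroupOf] using h2 g g.2 (by simpa [mem_subgroupOf] using hg))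
  refine huM (?_ : _ ∈ M)
  have htop : commutator A ≤ M := by
    haveI := hMn
    refine Subgroup.Normal.quotient_commutative_iff_commutator_le.1 ?_
    haveI : IsCyclic (A ⧸ M) := isCyclic_of_prime_card (p := 2) (by rw [← index_eq_card, hM])
    exact IsCyclic.isMulCommutative
  have hc : commutator A = ⊤ := by
    apply map_injective A.subtype_injective
    rw [map_subtype_commutator, B.cfg.perfect, ← MonoidHom.range_eq_map, range_subtype]
  exact htop (hc ▸ mem_top _)

end Base

end CfsgLib.InvolFixFour
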