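import Cfsg.Agent.InvolFixFour.Pair
import Cfsg.Agent.InvolFixFour.Tools

/-!
Three involutions with `z` fused to `u`: the Sylow subgroup is `Z/4 × Z/4`.
-/

set_option autoImplicit false
set_option linter.unusedSectionVars false
set_option linter.style.haveILetI false

namespace CfsgLib.InvolFixFour

open Subgroup

variable {G : Type*} [Group G] [Finite G] {A : Subgroup G} {t : G}

namespace Pair

variable {P : Subgroup G} {x u : G} (F : Pair A t P x u)

/-- The centraliser of `u` in `P`. -/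
def V (_F : Pair A t P x u) : Subgroup G := P ⊓ centralizer ({u} : Set G)

include F

theorem mem_V {p : G} : p ∈ F.V ↔ p ∈ P ∧ Commute p u := by
  rw [V, mem_inf, mem_centralizer_singleton_iff]; rfl

theorem x_memV : x ∈ F.V := F.mem_V.2 ⟨F.B.hx, F.hxu⟩

theorem U_leV : F.U ≤ F.V := fun w hw =>
  F.mem_V.2 ⟨F.U_le hw, (F.U_comm F.hu (Commute.refl u) hw).symm⟩

theorem V_cj : ∀ p ∈ F.V, cj t p ∈ F.V := by
  intro p hp
  obtain ⟨hpP, hpu⟩ := F.mem_V.1 hp
  refine F.mem_V.2 ⟨F.B.inv p hpP, ?_⟩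
  have h : Commute (cj t p) (u * (x * x)) := by
    show cj t p * _ = _ * cj t p
    rw [← F.hcu, ← cj_mul F.tt, ← cj_mul F.tt, hpu.eq]
  have h2 := h.mul_right (F.B.z_central (F.B.inv p hpP)).symm.inv_right
  rwa [mul_inv_cancel_right] at h2

/-- An element normalising `V` and sending `z` to `u`. -/
theorem norm_elem (hzu : Fused A (x * x) u) :
    ∃ n ∈ A, n * (x * x) * n⁻¹ = u ∧ ∀ v ∈ F.V, n * v * n⁻¹ ∈ F.V := by
  haveI : Fact (Nat.Prime 2) := ⟨Nat.prime_two⟩
  have ht := F.tt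
  have hnorm : ∀ v ∈ F.V, Commute v u := fun v hv => (F.mem_V.1 hv).2
  by_cases hVP : P ≤ F.V
  · obtain ⟨n, hn, hnz, hnP⟩ := F.B.fused_normalizer (a := x * x) (b := u)
      (fun p hp => (hnorm p (hVP hp)).symm) (fun p hp => F.B.z_central hp) hzu
    exact ⟨n, hn, hnz, fun v hv => hVP (hnP v (F.mem_V.1 hv).1)⟩
  set z := x * x with hz
  obtain ⟨n1, hn1, hn1u⟩ := hzu.symm
  have hV2 : IsPGroup 2 F.V := F.B.two.to_le inf_le_left
  have hVA : F.V ≤ A := inf_le_left.trans F.B.le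
  obtain ⟨m, hm, hmz, hmP⟩ := F.B.into_of_central (w := z) (fun p hp => F.B.z_central hp)
    (R := F.V.map (MulAut.conj n1).toMonoidHom) (hV2.map _)
    (by rintro _ ⟨p, hp, rfl⟩; exact mul_mem (mul_mem hn1 (hVA hp)) (inv_mem hn1))
    (by
      rintro _ ⟨p, hp, rfl⟩
      have := (hnorm p hp).symm.conj n1
      rwa [hn1u] at this)
  set k := m * n1 with hk
  have hkA : k ∈ A := mul_mem hm hn1
  have hku : k * u * k⁻¹ = z := by
    rw [hk, show m * n1 * u * (m * n1)⁻¹ = m * (n1 * u * n1⁻¹) * m⁻¹ by group, hn1u, hmz]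
  set W := F.V.map (MulAut.conj k).toMonoidHom with hW
  have hWP : W ≤ P := by
    rintro _ ⟨p, hp, rfl⟩
    show k * p * k⁻¹ ∈ P
    rw [hk, show m * n1 * p * (m * n1)⁻¹ = m * (n1 * p * n1⁻¹) * m⁻¹ by group]
    exact hmP _ (conj_mem_map hp)
  have hcardW : Nat.card W = Nat.card F.V :=
    card_map_of_injective (MulAut.conj k).injective
  have hWne : ¬ P ≤ W := fun h => hVP (eq_of_le_of_card_ge inf_le_left
    (hcardW ▸ card_le_of_le h)).ge
  haveI : Group.IsNilpotent P := F.B.two.isNilpotent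
  obtain ⟨⟨q, hqP⟩, hqN, hqW⟩ := SetLike.exists_of_lt
    (Group.normalizerCondition_of_isNilpotent (W.subgroupOf P) (lt_top_iff_ne_top.2 fun h =>
      hWne (subgroupOf_eq_top.1 h)))
  have hqconj : ∀ w ∈ W, q * w * q⁻¹ ∈ W := fun w hw =>
    (mem_normalizer_iff.1 hqN ⟨w, hWP hw⟩).1 hw
  have hqz : q * z * q⁻¹ = z := by rw [(F.B.z_central hqP).eq.symm, mul_inv_cancel_right]
  set n0 := k⁻¹ * q * k with hn0
  have hn0A : n0 ∈ A := mul_mem (mul_mem (inv_mem hkA) (F.B.le hqP)) hkA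
  have hn0V : ∀ v ∈ F.V, n0 * v * n0⁻¹ ∈ F.V := by
    intro v hv
    obtain ⟨v', hv', he⟩ := hqconj _ (conj_mem_map (n := k) hv)
    have he' : k * v' * k⁻¹ = q * (k * v * k⁻¹) * q⁻¹ := he
    have : n0 * v * n0⁻¹ = v' := by
      rw [hn0, show k⁻¹ * q * k * v * (k⁻¹ * q * k)⁻¹ = k⁻¹ * (q * (k * v * k⁻¹) * q⁻¹) * k by group,
        ← he']
      group
    rwa [this]
  have hn0nV : n0 ∉ F.V := fun h => hqW (by
    refine ⟨n0, h, ?_⟩
    show k * n0 * k⁻¹ = q
    rw [hn0]; group)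
  have hu' : u = k⁻¹ * z * k := by rw [← hku]; group
  have hn0u : n0 * u * n0⁻¹ = u := by
    rw [hu', hn0, show k⁻¹ * q * k * (k⁻¹ * z * k) * (k⁻¹ * q * k)⁻¹ = k⁻¹ * (q * z * q⁻¹) * k by
      group, hqz]
  have hn0z : n0 * z * n0⁻¹ = z * u := by
    rcases F.mem_U_of_sq (F.mem_V.1 (hn0V z (F.U_leV F.z_memU))).1
      (by rw [conj_mul, F.B.zz, mul_one, mul_inv_cancel]) with h | h | h | h
    · exact absurd (conj_eq_one_iff.1 h) F.B.z_ne
    · exfalso
      -- `⟨n0⟩V` is conjugate into `P` by an element centralising `z`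
      have hR : IsPGroup 2 (zpowers n0) := by
        have h1 : zpowers n0 = (zpowers q).map (MulAut.conj k⁻¹).toMonoidHom := by
          rw [MonoidHom.map_zpowers]
          exact congrArg zpowers (by simp [hn0])
        rw [h1]
        exact (F.B.two.to_le (zpowers_le.2 hqP)).map _
      have hN : zpowers n0 ≤ normalizer (F.V : Set G) := by
        rw [zpowers_le, mem_normalizer_iff]
        intro v
        refine ⟨hn0V v, fun hv => ?_⟩
        have hmap : F.V.map (MulAut.conj n0).toMonoidHom = F.V := by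
          refine eq_of_le_of_card_ge ?_ ?_
          · rintro _ ⟨p, hp, rfl⟩; exact hn0V p hp
          · rw [card_map_of_injective (MulAut.conj n0).injective]
        rw [← hmap] at hv
        obtain ⟨w, hw, he⟩ := hv
        have : w = v := (MulAut.conj n0).injective he
        exact this ▸ hw
      set V' := zpowers n0 ⊔ F.V with hV'
      have hV'z : V' ≤ centralizer ({z} : Set G) := sup_le
        (zpowers_le.2 (mem_centralizer_singleton_iff.2 (mul_inv_eq_iff_eq_mul.1 h)))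
        (fun v hv => mem_centralizer_singleton_iff.2 (F.B.z_central (F.mem_V.1 hv).1).symm.eq)
      have hV'u : V' ≤ centralizer ({u} : Set G) := sup_le
        (zpowers_le.2 (mem_centralizer_singleton_iff.2 (mul_inv_eq_iff_eq_mul.1 hn0u)))
        inf_le_right
      obtain ⟨e, -, hez, heP⟩ := F.B.into_of_central (w := z) (fun p hp => F.B.z_central hp)
        (R := V') (hR.to_sup_of_normal_right' hV2 hN) (sup_le (zpowers_le.2 hn0A) hVA)
        (fun r hr => (mem_centralizer_singleton_iff.1 (hV'z hr)).symm)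
      have heu : e * u * e⁻¹ = u ∨ e * u * e⁻¹ = z * u := by
        rcases F.mem_U_of_sq (heP u (mem_sup_right (F.U_leV F.u_memU)))
          (by rw [conj_mul, F.huu, mul_one, mul_inv_cancel]) with h1 | h1 | h1 | h1
        · exact absurd (conj_eq_one_iff.1 h1) F.u_ne
        · exact absurd (mul_left_cancel (mul_right_cancel (h1.trans hez.symm))) F.u_ne_z
        · exact Or.inl h1
        · exact Or.inr h1
      have hmapV : V'.map (MulAut.conj e).toMonoidHom ≤ F.V := by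
        rintro _ ⟨r, hr, rfl⟩
        show e * r * e⁻¹ ∈ F.V
        have hreu : Commute (e * r * e⁻¹) (e * u * e⁻¹) :=
          (show Commute r u from mem_centralizer_singleton_iff.1 (hV'u hr)).conj e
        refine F.mem_V.2 ⟨heP r hr, ?_⟩
        rcases heu with h1 | h1 <;> rw [h1] at hreu
        · exact hreu
        · have := (F.B.z_central (heP r hr)).symm.mul_right hreu
          rwa [← mul_assoc, F.B.zz, one_mul] at this
      have hle : Nat.card V' ≤ Nat.card F.V := by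
        have hc : Nat.card (V'.map (MulAut.conj e).toMonoidHom) = Nat.card V' :=
          card_map_of_injective (MulAut.conj e).injective
        rw [← hc]
        exact card_le_of_le hmapV
      have hEq : F.V = V' := eq_of_le_of_card_ge le_sup_right hle
      exact hn0nV (hEq ▸ mem_sup_left (mem_zpowers n0))
    · exact absurd (mul_left_cancel (mul_right_cancel (h.trans hn0u.symm))).symm F.u_ne_z
    · exact h
  haveI := F.B.cfg.normal
  refine ⟨cj t n0, ?_, ?_, fun v hv => ?_⟩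
  · have := (inferInstance : A.Normal).conj_mem n0 hn0A t
    rwa [inv_eq_of_mul_eq_one_right ht] at this
  · have h := congrArg (cj t) hn0z
    rw [cj_mul ht (n0 * z) n0⁻¹, cj_mul ht n0 z, cj_inv ht n0, cj_mul ht z u, F.B.cj_z, F.hcu, F.zu_comm.symm.eq,
      ← mul_assoc (x * x) (x * x) u, F.B.zz, one_mul] at h
    exact h
  · have h := F.V_cj _ (hn0V _ (F.V_cj v hv))
    rwa [cj_mul ht, cj_mul ht, cj_inv ht, cj_cj ht] at h

/-- Elements of `V` central modulo the four-group. -/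
def Z2 : Subgroup G where
  carrier := {v | v ∈ F.V ∧ ∀ w ∈ F.V, v * w * v⁻¹ * w⁻¹ ∈ F.U}
  one_mem' := ⟨one_mem _, fun w _ => by simp⟩
  mul_mem' := by
    rintro a b ⟨ha, ha'⟩ ⟨hb, hb'⟩
    refine ⟨mul_mem ha hb, fun w hw => ?_⟩
    rw [show a * b * w * (a * b)⁻¹ * w⁻¹ =
      a * (b * w * b⁻¹ * w⁻¹) * a⁻¹ * (a * w * a⁻¹ * w⁻¹) by group]
    exact mul_mem (F.U_conj (F.mem_V.1 ha).1 (hb' w hw)) (ha' w hw)
  inv_mem' := by
    rintro a ⟨ha, ha'⟩
    refine ⟨inv_mem ha, fun w hw => ?_⟩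
    rw [show a⁻¹ * w * a⁻¹⁻¹ * w⁻¹ = a⁻¹ * (a * w * a⁻¹ * w⁻¹)⁻¹ * a⁻¹⁻¹ by group]
    exact F.U_conj (inv_mem (F.mem_V.1 ha).1) (inv_mem (ha' w hw))

theorem x_memZ2 : x ∈ F.Z2 := by
  haveI : Fact (Nat.Prime 2) := ⟨Nat.prime_two⟩
  have ht := F.tt
  have hUZ : F.U ≤ F.Z2 := fun w hw => ⟨F.U_leV hw, fun v hv => by
    rw [(F.U_comm (F.mem_V.1 hv).1 (F.mem_V.1 hv).2 hw).symm.eq, mul_inv_cancel_right,
      mul_inv_cancel]
    exact one_mem _⟩
  have hZcj : ∀ v ∈ F.Z2, cj t v ∈ F.Z2 := fun v hv => ⟨F.V_cj v hv.1, fun w hw => by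
    have := F.U_cj _ (hv.2 _ (F.V_cj w hw))
    rwa [cj_mul ht, cj_mul ht, cj_mul ht, cj_inv ht, cj_inv ht, cj_cj ht] at this⟩
  have hne : F.U ≠ F.Z2 := by
    haveI hUn : (F.U.subgroupOf F.V).Normal := ⟨fun w hw v => F.U_conj (F.mem_V.1 v.2).1 hw⟩
    have hV2 : IsPGroup 2 F.V := F.B.two.to_le inf_le_left
    have h2 : IsPGroup 2 (F.V ⧸ F.U.subgroupOf F.V) := hV2.to_quotient (F.U.subgroupOf F.V)
    haveI : Nontrivial (F.V ⧸ F.U.subgroupOf F.V) :=
      ⟨⟨QuotientGroup.mk ⟨x, F.x_memV⟩, 1, fun h => F.x_notMemU ((QuotientGroup.eq_one_iff (N := F.U.subgroupOf F.V) _).1 h :)⟩⟩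
    haveI := h2.center_nontrivial
    obtain ⟨⟨c, hc⟩, hc1⟩ := exists_ne (1 : center (F.V ⧸ F.U.subgroupOf F.V))
    obtain ⟨v, rfl⟩ := QuotientGroup.mk_surjective c
    intro h
    refine hc1 (Subtype.ext ((QuotientGroup.eq_one_iff v).2 ?_))
    show (v : G) ∈ F.U
    rw [h]
    refine ⟨v.2, fun w hw => ?_⟩
    have h1 : ((v * ⟨w, hw⟩ * v⁻¹ * ⟨w, hw⟩⁻¹ : F.V) : F.V ⧸ F.U.subgroupOf F.V) = 1 := by
      rw [QuotientGroup.mk_mul, QuotientGroup.mk_mul, QuotientGroup.mk_mul,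
        (mem_center_iff.1 hc _).symm, QuotientGroup.mk_inv, QuotientGroup.mk_inv,
        mul_inv_cancel_right, mul_inv_cancel]
    exact ((QuotientGroup.eq_one_iff _).1 h1 :)
  obtain ⟨q, hq, hqU, hd⟩ := exists_fixed_coset ht ((F.B.two.to_le inf_le_left).to_le
    (show F.Z2 ≤ F.V from fun v hv => hv.1)) hUZ hZcj F.U_cj hne
  have h := (F.fixed_coset (F.mem_V.1 hq.1).1 hd).resolve_left hqU
  have := mul_mem (hUZ h) (inv_mem hq)
  rwa [mul_inv_cancel_right] at this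

/-- A square root of `u` commuting with `x`. -/
theorem exists_root (hzu : Fused A (x * x) u) : ∃ y ∈ P, ∃ p ∈ P, y * y = u ∧ Commute p y ∧
    cj t p = p ∧ p * p = x * x ∧ cj t y = y⁻¹ * p := by
  have ht := F.tt
  obtain ⟨n, hn, hnz, hnV⟩ := F.norm_elem hzu
  set z := x * x with hz
  have hxZ := F.x_memZ2
  have hnU : ∀ w ∈ F.U, n * w * n⁻¹ ∈ F.U := fun w hw =>
    F.mem_U_of_sq (F.mem_V.1 (hnV w (F.U_leV hw))).1
      (by rw [conj_mul, F.U_sq hw, mul_one, mul_inv_cancel])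
  have hmap : F.V.map (MulAut.conj n).toMonoidHom = F.V := by
    refine eq_of_le_of_card_ge ?_ ?_
    · rintro _ ⟨p, hp, rfl⟩; exact hnV p hp
    · rw [card_map_of_injective (MulAut.conj n).injective]
  set y := n * x * n⁻¹ with hy
  have hyy : y * y = u := by rw [hy, conj_mul, hnz]
  have hyV : y ∈ F.V := hnV x F.x_memV
  have hyP : y ∈ P := (F.mem_V.1 hyV).1
  have hyu : Commute y u := (F.mem_V.1 hyV).2
  have hyZ : ∀ w ∈ F.V, y * w * y⁻¹ * w⁻¹ ∈ F.U := by
    intro w hw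
    rw [← hmap] at hw
    obtain ⟨w', hw', rfl⟩ := hw
    show y * (n * w' * n⁻¹) * y⁻¹ * (n * w' * n⁻¹)⁻¹ ∈ F.U
    rw [hy, show n * x * n⁻¹ * (n * w' * n⁻¹) * (n * x * n⁻¹)⁻¹ * (n * w' * n⁻¹)⁻¹ =
      n * (x * w' * x⁻¹ * w'⁻¹) * n⁻¹ by group]
    exact hnU _ (hxZ.2 w' hw')
  set y' := cj t y with hy'
  have hy'V : y' ∈ F.V := F.V_cj y hyV
  have hy'sq : y' * y' = u * z := by rw [hy', ← cj_mul ht, hyy, F.hcu]
  set p := y * y' with hp
  have hpP : p ∈ P := mul_mem hyP (F.mem_V.1 hy'V).1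
  have hcoset : p⁻¹ * cj t p ∈ F.U := by
    have h1 := hyZ _ hy'V
    have e : p⁻¹ * cj t p = p⁻¹ * (y * y' * y⁻¹ * y'⁻¹)⁻¹ * p := by
      rw [hp, cj_mul ht, hy', cj_cj ht]; group
    rw [e]
    have := F.U_conj (inv_mem hpP) (inv_mem h1)
    rwa [inv_inv] at this
  rcases F.fixed_coset hpP hcoset with hU | hU
  · exfalso
    have hyw : Commute y p := F.U_comm hyP hyu hU
    have he : y' = y⁻¹ * p := by rw [hp]; group
    rw [he, hyw.inv_left.symm.mul_mul_mul_comm, F.U_sq hU, mul_one, ← mul_inv_rev, hyy,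
      F.U_inv F.u_memU] at hy'sq
    exact F.B.z_ne (left_eq_mul.1 hy'sq)
  -- `y y' = x w`
  set w := x * p with hw
  have hpw : p = x⁻¹ * w := by rw [hw, inv_mul_cancel_left]
  have hwx : Commute x w := F.U_comm F.B.hx F.hxu hU
  have hwy : Commute y w := F.U_comm hyP hyu hU
  have hpp : p * p = z := by
    rw [hpw, hwx.inv_left.symm.mul_mul_mul_comm, F.U_sq hU, mul_one, ← mul_inv_rev, ← hz, F.B.z_inv]
  have hpc : Commute p y := by
    -- `y' y' = u z` forces `x` and `y` to commute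
    have hyinv : y⁻¹ = y * u := by
      rw [inv_eq_iff_mul_eq_one, ← mul_assoc, hyy, F.huu]
    have he : y' = y⁻¹ * p := by rw [hp]; group
    rw [he] at hy'sq
    have h1 : y⁻¹ * p * (y⁻¹ * p) = y⁻¹ * y⁻¹ * (y * p * y⁻¹ * p⁻¹) * (p * p) := by group
    rw [h1, hpp, show y⁻¹ * y⁻¹ = u by rw [← mul_inv_rev, hyy, F.U_inv F.u_memU]] at hy'sq
    have h3 : y * p * y⁻¹ * p⁻¹ = 1 := mul_eq_left.1 (mul_right_cancel hy'sq)
    exact (mul_inv_eq_iff_eq_mul.1 (mul_inv_eq_one.1 h3)).symm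
  refine ⟨y, hyP, p, hpP, hyy, hpc, ?_, hpp, by rw [← hy', hp]; group⟩
  rw [hp, cj_mul ht, hy', cj_cj ht]
  have h4 : Commute y y' := by
    have := (Commute.refl y).inv_right.mul_right hpc.symm
    rwa [hp, inv_mul_cancel_left] at this
  exact h4.symm.eq

/-- `P` is homocyclic of exponent 4. -/
theorem exists_mulEquiv (hzu : Fused A (x * x) u) :
    Nonempty (P ≃* Multiplicative (ZMod (2 ^ 2) × ZMod (2 ^ 2))) := by
  have ht := F.tt
  obtain ⟨y, hy, p, hp, hyy, hpy, hcp, hpp, hcy⟩ := F.exists_root hzu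
  have hp4 : p ^ 4 = 1 := by
    rw [show 4 = 2 * 2 by rfl, pow_mul, sq p, hpp, sq, F.B.zz]
  have hy4 : y ^ 4 = 1 := by
    rw [show 4 = 2 * 2 by rfl, pow_mul, sq y, hyy, sq, F.huu]
  have e4 : ∀ {g : G}, g ^ 4 = 1 → ∀ a b : ZMod (2 ^ 2),
      g ^ (a + b).val = g ^ a.val * g ^ b.val := fun {g} hg a b => by
    rw [← pow_add, ZMod.val_add, pow_eq_pow_mod (a.val + b.val) hg]
    rfl
  let f : Multiplicative (ZMod (2 ^ 2) × ZMod (2 ^ 2)) →* G :=
    MonoidHom.mk' (fun q => p ^ q.toAdd.1.val * y ^ q.toAdd.2.val) fun q r => by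
      show p ^ (q.toAdd.1 + r.toAdd.1).val * y ^ (q.toAdd.2 + r.toAdd.2).val = _
      rw [e4 hp4, e4 hy4]
      exact (hpy.pow_pow _ _).mul_mul_mul_comm _ _
  have hf : ∀ a b, f (Multiplicative.ofAdd (a, b)) = p ^ a.val * y ^ b.val := fun _ _ => rfl
  have hf20 : f (Multiplicative.ofAdd ((2, 0) : ZMod (2 ^ 2) × ZMod (2 ^ 2))) = x * x := by
    rw [hf]; show p ^ 2 * y ^ 0 = _; rw [sq, hpp, pow_zero, mul_one]
  have hf02 : f (Multiplicative.ofAdd ((0, 2) : ZMod (2 ^ 2) × ZMod (2 ^ 2))) = u := by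
    rw [hf]; show p ^ 0 * y ^ 2 = _; rw [sq, hyy, pow_zero, one_mul]
  have hf22 : f (Multiplicative.ofAdd ((2, 2) : ZMod (2 ^ 2) × ZMod (2 ^ 2))) = x * x * u := by
    rw [hf]; show p ^ 2 * y ^ 2 = _; rw [sq, sq, hpp, hyy]
  -- injectivity
  have hne : ∀ q : ZMod (2 ^ 2) × ZMod (2 ^ 2), q = (2, 0) ∨ q = (0, 2) ∨ q = (2, 2) →
      f (Multiplicative.ofAdd q) ≠ 1 := by
    rintro q (rfl | rfl | rfl) h
    · exact F.B.z_ne (hf20.symm.trans h)
    · exact F.u_ne (hf02.symm.trans h)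
    · refine F.u_ne_z ((eq_inv_of_mul_eq_one_right (hf22.symm.trans h)).trans F.B.z_inv)
  have hdec : ∀ q : ZMod (2 ^ 2) × ZMod (2 ^ 2), q = 0 ∨ q = (2, 0) ∨ q = (0, 2) ∨ q = (2, 2) ∨
      q + q = (2, 0) ∨ q + q = (0, 2) ∨ q + q = (2, 2) := by decide
  have hinj : Function.Injective f := by
    refine (injective_iff_map_eq_one f).2 fun m hm => ?_
    rcases hdec m.toAdd with h | h | h | h | h | h | h
    · exact Multiplicative.toAdd.injective h
    iterate 3 exact absurd hm (hne m.toAdd (by rw [h]; simp))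
    all_goals
      exfalso
      have h2 : f (Multiplicative.ofAdd (m.toAdd + m.toAdd)) = 1 := by
        rw [ofAdd_add, map_mul]
        show f m * f m = 1
        rw [hm, one_mul]
      exact hne _ (by rw [h]; simp) h2
  -- the action of `t`
  have hτ : ∀ m, cj t (f m) =
      f (Multiplicative.ofAdd (m.toAdd.1 + m.toAdd.2, -m.toAdd.2)) := by
    intro m
    rw [hf]
    show cj t (p ^ m.toAdd.1.val * y ^ m.toAdd.2.val) = _
    rw [cj_mul ht, cj_pow ht, cj_pow ht, hcp, hcy, hpy.symm.inv_left.mul_pow, e4 hp4, ← mul_assoc]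
    have hneg : y ^ (-m.toAdd.2).val = (y ^ m.toAdd.2.val)⁻¹ := eq_inv_of_mul_eq_one_left (by
      rw [← e4 hy4, neg_add_cancel, ZMod.val_zero, pow_zero])
    rw [hneg, inv_pow, mul_assoc, mul_assoc]
    exact congrArg _ (hpy.pow_pow _ _).inv_right.symm.eq
  have hsolve : ∀ q : ZMod (2 ^ 2) × ZMod (2 ^ 2), (q.1 + q.2, -q.2) + q = 0 →
      ∃ r : ZMod (2 ^ 2) × ZMod (2 ^ 2), (r.1 + r.2, -r.2) = r + q := by decide
  have hle : f.range ≤ P := by
    rintro _ ⟨m, rfl⟩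
    exact mul_mem (pow_mem hp _) (pow_mem hy _)
  have hinv : ∀ d ∈ f.range, cj t d ∈ f.range := by
    rintro _ ⟨m, rfl⟩
    exact ⟨_, (hτ m).symm⟩
  have hfp : ∀ k : ℕ, p ^ k ∈ f.range := fun k => pow_mem
    (show p ∈ f.range from ⟨Multiplicative.ofAdd (1, 0), (hf 1 0).trans (by
      show p ^ 1 * y ^ 0 = p; rw [pow_one, pow_zero, mul_one])⟩) k
  have heq : f.range = P := by
    refine eq_of_lift ht F.B.two hle F.B.inv hinv (fun q hq hc => ?_) ?_
    · rcases F.B.fix_mem hp hcp with h | h | h | h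
      · exact absurd (by rw [← hpp, h, one_mul]) F.B.z_ne
      · rcases F.B.fix_mem hq hc with h' | h' | h' | h' <;> rw [h']
        · exact one_mem _
        · simpa [h] using hfp 1
        · simpa [h, sq] using hfp 2
        · simpa [h] using inv_mem (hfp 1)
      · exact absurd (by rw [← hpp, h, F.B.zz]) F.B.z_ne
      · rcases F.B.fix_mem hq hc with h' | h' | h' | h' <;> rw [h']
        · exact one_mem _
        · simpa [h] using inv_mem (hfp 1)
        · simpa [h, sq] using inv_mem (hfp 2)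
        · simpa [h] using hfp 1
    · rintro _ _ _ ⟨m, rfl⟩ hdd _
      rw [hτ, ← map_mul, map_eq_one_iff f hinj] at hdd
      obtain ⟨r, hr⟩ := hsolve m.toAdd (congrArg Multiplicative.toAdd hdd)
      refine ⟨f (Multiplicative.ofAdd r), ⟨_, rfl⟩, ?_⟩
      rw [hτ, ← map_mul]
      exact congrArg f (congrArg Multiplicative.ofAdd hr)
  exact ⟨((MulEquiv.subgroupCongr heq.symm).trans (MonoidHom.ofInjective hinj).symm)⟩

end Pair

end CfsgLib.InvolFixFour
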