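import Cfsg.Agent.InvolFixFour.Pair
import Cfsg.Agent.InvolFixFour.Central
import Cfsg.Agent.S0112
import Cfsg.Agent.S0113

/-!
Three involutions with `z` not fused to `u`: both are central, and the derived subgroup of `P` is
contained in a cyclic group.
-/

set_option autoImplicit false
set_option linter.unusedSectionVars false
set_option linter.style.haveILetI false

namespace CfsgLib.InvolFixFour

open Subgroup
open scoped commutatorElement

variable {G : Type*} [Group G] [Finite G] {A : Subgroup G} {t : G}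

theorem Semis.mem_commutator_of_central {H : Type*} [Group H] [Finite H] (S : Semis H)
    (Q : Subgroup H) (hQ : Odd Q.index) {w : H} (hw : w * w = 1) (hwQ : w ∈ Q)
    (hwc : w ∈ center H) : (⟨w, hwQ⟩ : Q) ∈ commutator Q := by
  set τ := MonoidHom.transfer (Abelianization.of (G := Q)) with hτ
  have h1 : τ w = 1 := MonoidHom.mem_ker.1
    (Abelianization.commutator_subset_ker τ (by rw [S.perf]; exact mem_top w))
  have hpow : w ^ Q.index = w := by
    obtain ⟨k, hk⟩ := hQ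
    rw [hk, pow_succ, pow_mul, sq, hw, one_pow, one_mul]
  have key : ∀ (k : ℕ) (g₀ : H), g₀⁻¹ * w ^ k * g₀ ∈ Q → g₀⁻¹ * w ^ k * g₀ = w ^ k :=
    fun k g₀ _ => by
      rw [mul_assoc, ← mem_center_iff.1 (pow_mem hwc k) g₀, inv_mul_cancel_left]
  rw [hτ, MonoidHom.transfer_eq_pow _ w key] at h1
  have h2 := (Abelianization.ker_of Q).le (MonoidHom.mem_ker.2 h1)
  have heq : (⟨w ^ Q.index, MonoidHom.transfer_eq_pow_aux w key⟩ : Q) = ⟨w, hwQ⟩ := Subtype.ext hpow
  rwa [heq] at h2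

namespace Base

variable {P : Subgroup G} {x : G} (B : Base A t P x)
include B

theorem semis : Semis A := ⟨by
  apply map_injective A.subtype_injective
  rw [map_subtype_commutator, B.cfg.perfect, ← MonoidHom.range_eq_map, range_subtype], B.cfg.solv⟩

/-- The Sylow subgroup of `A`. -/
theorem exists_sylow : ∃ S : Sylow 2 A, (S : Subgroup A) = P.subgroupOf A := by
  haveI : Fact (Nat.Prime 2) := ⟨Nat.prime_two⟩
  exact ⟨(B.two.comap_subtype (K := A)).toSylow
    (fun h => Nat.not_even_iff_odd.2 B.odd (even_iff_two_dvd.2 h)), IsPGroup.toSylow_coe _ _⟩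

end Base

namespace Pair

variable {P : Subgroup G} {x u : G} (F : Pair A t P x u)
include F

theorem central_z (hnf : ¬ Fused A (x * x) u) :
    (⟨x * x, F.B.le F.B.z_mem⟩ : A) ∈ center A := by
  haveI := F.B.cfg.normal
  obtain ⟨S, hS⟩ := F.B.exists_sylow
  refine F.B.semis.center_of_isolated S (Subtype.ext F.B.zz)
    (fun h => F.B.z_ne (congrArg Subtype.val h)) ?_ fun g hg => ?_
  · show _ ∈ (S : Subgroup A)
    rw [hS]; exact F.B.z_mem
  · have hgP : (g : G) * (x * x) * (g : G)⁻¹ ∈ P := by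
      have h1 : g * ⟨x * x, F.B.le F.B.z_mem⟩ * g⁻¹ ∈ (S : Subgroup A) := hg
      rw [hS] at h1
      exact h1
    refine Subtype.ext (?_ : (g : G) * (x * x) * (g : G)⁻¹ = x * x)
    rcases F.mem_U_of_sq hgP (by rw [conj_mul, F.B.zz, mul_one, mul_inv_cancel]) with h | h | h | h
    · exact absurd (conj_eq_one_iff.1 h) F.B.z_ne
    · exact h
    · exact absurd ⟨g, g.2, h⟩ hnf
    · refine absurd ?_ hnf
      have hf := Fused.map_cj F.tt (show Fused A (x * x) (x * x * u) from ⟨g, g.2, h⟩)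
      rwa [F.B.cj_z, cj_mul F.tt, F.B.cj_z, F.hcu, F.zu_comm.symm.eq, ← mul_assoc (x * x) (x * x) u,
        F.B.zz, one_mul] at hf

theorem central_u (hnf : ¬ Fused A (x * x) u) : (⟨u, F.B.le F.hu⟩ : A) ∈ center A := by
  haveI : Fact (Nat.Prime 2) := ⟨Nat.prime_two⟩
  have hzc := F.central_z hnf
  set z' : A := ⟨x * x, F.B.le F.B.z_mem⟩
  set u' : A := ⟨u, F.B.le F.hu⟩
  set Z := zpowers z' with hZ
  have hZc : Z ≤ center A := zpowers_le.2 hzc
  haveI : Z.Normal := ⟨fun z hz g => by rwa [mem_center_iff.1 (hZc hz) g, mul_inv_cancel_right]⟩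
  have hzz : z' * z' = 1 := Subtype.ext F.B.zz
  have hZmem : ∀ a ∈ Z, a = 1 ∨ a = z' := by
    rintro a ⟨j, rfl⟩
    rcases Int.even_or_odd' j with ⟨l, rfl | rfl⟩
    · left; show z' ^ (2 * l) = 1; rw [zpow_mul, zpow_two, hzz, one_zpow]
    · right; show z' ^ (2 * l + 1) = z'; rw [zpow_add, zpow_mul, zpow_two, hzz, one_zpow, one_mul, zpow_one]
  obtain ⟨S, hS⟩ := F.B.exists_sylow
  set π := QuotientGroup.mk' Z
  have huZ : u' ∉ Z := fun h => by
    rcases hZmem _ h with h1 | h1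
    · exact F.u_ne (congrArg Subtype.val h1)
    · exact F.u_ne_z (congrArg Subtype.val h1)
  have hc := (F.B.semis.quot hZc).center_of_isolated
    (S.mapSurjective (QuotientGroup.mk'_surjective Z)) (z := π u')
    (by rw [← map_mul, show u' * u' = 1 from Subtype.ext F.huu, map_one])
    (fun h => huZ ((QuotientGroup.eq_one_iff _).1 h))
    (by
      show π u' ∈ (S : Subgroup A).map π
      exact ⟨u', by rw [hS]; exact F.hu, rfl⟩)
    (fun g hg => by
      obtain ⟨g, rfl⟩ := QuotientGroup.mk'_surjective Z g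
      obtain ⟨p, hp, he⟩ := (hg : π g * π u' * (π g)⁻¹ ∈ (S : Subgroup A).map π)
      rw [← map_inv, ← map_mul, ← map_mul] at he ⊢
      have hd : p⁻¹ * (g * u' * g⁻¹) ∈ Z := (QuotientGroup.eq (s := Z)).1 he
      have hgP : ((g * u' * g⁻¹ : A) : G) ∈ P := by
        have h1 : (p : G) ∈ P := by rw [hS] at hp; exact hp
        rcases hZmem _ hd with h | h
        · rw [← inv_mul_eq_one.1 h]; exact h1
        · rw [show g * u' * g⁻¹ = p * z' by rw [← h, mul_inv_cancel_left]]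
          exact mul_mem h1 F.B.z_mem
      rcases F.mem_U_of_sq hgP
        (by
          show ((g * u' * g⁻¹ * (g * u' * g⁻¹) : A) : G) = 1
          rw [conj_mul, show u' * u' = 1 from Subtype.ext F.huu, mul_one, mul_inv_cancel]; rfl)
        with h | h | h | h
      · exact absurd (conj_eq_one_iff.1 (Subtype.ext h : g * u' * g⁻¹ = 1))
          (fun e => F.u_ne (congrArg Subtype.val e))
      · refine absurd (congrArg Subtype.val ?_ : (u' : G) = z') F.u_ne_z
        have h' : g * u' * g⁻¹ = z' := Subtype.ext h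
        rw [show u' = g⁻¹ * (g * u' * g⁻¹) * g by group, h', mul_assoc, ← mem_center_iff.1 hzc g,
          inv_mul_cancel_left]
      · exact congrArg π (Subtype.ext h)
      · rw [show g * u' * g⁻¹ = z' * u' from Subtype.ext h, map_mul,
          show π z' = 1 from (QuotientGroup.eq_one_iff _).2 (mem_zpowers _), one_mul])
  refine F.B.semis.mem_center_of_comm fun a => hZc ((QuotientGroup.eq_one_iff _).1 ?_)
  show π (u' * a * u'⁻¹ * a⁻¹) = 1
  rw [map_mul, map_mul, map_mul, map_inv, map_inv, ← mem_center_iff.1 hc, mul_inv_cancel_right,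
    mul_inv_cancel]

theorem u_comm (hnf : ¬ Fused A (x * x) u) {p : G} (hp : p ∈ P) : Commute p u :=
  congrArg Subtype.val (mem_center_iff.1 (F.central_u hnf) ⟨p, F.B.le hp⟩)

/-- Generators of `P` modulo the four-group. -/
theorem exists_gens : ∃ g ∈ P, ∃ h ∈ P, (∃ b : ℤ, ∃ w ∈ F.U, h * g * h⁻¹ = g ^ b * w) ∧
    ∀ p ∈ P, ∃ k : ℤ, ∃ w ∈ F.U, p = g ^ k * w ∨ p = h * (g ^ k * w) := by
  haveI : Fact (Nat.Prime 2) := ⟨Nat.prime_two⟩
  have ht := F.tt
  have hti : t⁻¹ = t := inv_eq_of_mul_eq_one_right ht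
  set T := ext P t (by rw [ht]; exact one_mem P) (fun p hp => by rw [hti]; exact F.B.inv p hp)
    with hT
  have htT : t ∈ T := Or.inr (by rw [ht]; exact one_mem P)
  have hPT : P ≤ T := le_ext
  have hT2 : IsPGroup 2 T := fun ⟨s, hs⟩ => by
    rcases hs with hs | hs
    · obtain ⟨k, hk⟩ := F.B.two ⟨s, hs⟩
      exact ⟨k, Subtype.ext (by simpa using congrArg Subtype.val hk)⟩
    · have hss : s * s ∈ P := by
        have h := mul_mem (F.B.inv _ hs) hs
        rwa [cj, show t * (t * s) * t * (t * s) = t * t * s * (t * t) * s by group, ht, one_mul,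
          mul_one] at h
      obtain ⟨k, hk⟩ := F.B.two ⟨s * s, hss⟩
      refine ⟨k + 1, Subtype.ext ?_⟩
      show s ^ 2 ^ (k + 1) = 1
      rw [pow_succ', pow_mul, sq]
      exact congrArg Subtype.val hk
  haveI hUn : (F.U.subgroupOf T).Normal := ⟨fun w hw s => by
    have hwU : (w : G) ∈ F.U := hw
    show (s : G) * w * (s : G)⁻¹ ∈ F.U
    rcases s.2 with hs | hs
    · exact F.U_conj hs hwU
    · have := F.U_cj _ (F.U_conj hs hwU)
      rwa [cj, mul_inv_rev, hti, show t * (t * ↑s * ↑w * ((↑s)⁻¹ * t)) * t =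
        t * t * ↑s * ↑w * (↑s)⁻¹ * (t * t) by group, ht, one_mul, mul_one] at this⟩
  set π := QuotientGroup.mk' (F.U.subgroupOf T) with hπ
  have hker : ∀ s : T, π s = 1 ↔ (s : G) ∈ F.U := fun s =>
    (QuotientGroup.eq_one_iff s).trans mem_subgroupOf
  set τ := π ⟨t, htT⟩ with hτ
  set ξ := π ⟨x, hPT F.B.hx⟩ with hξ
  have hττ : τ * τ = 1 := by
    rw [hτ, ← map_mul, hker]; show t * t ∈ _; rw [ht]; exact one_mem _
  have hξξ : ξ * ξ = 1 := by rw [hξ, ← map_mul, hker]; exact F.z_memU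
  have hξi : ξ⁻¹ = ξ := inv_eq_of_mul_eq_one_right hξξ
  have htx : t * x = x * t := by
    have h := congrArg (· * t) F.B.hxt
    simp only [cj, mul_assoc, ht, mul_one] at h
    exact h
  have hτξ : Commute τ ξ := by
    show τ * ξ = ξ * τ
    rw [hτ, hξ, ← map_mul, ← map_mul]
    exact congrArg π (Subtype.ext htx)
  have hfix : ∀ p : T, (p : G) ∈ P → Commute τ (π p) → π p = 1 ∨ π p = ξ := by
    intro p hp hc
    have h1 : π (p⁻¹ * ⟨t, htT⟩ * p * ⟨t, htT⟩) = 1 := by
      rw [map_mul, map_mul, map_mul, map_inv, ← hτ, mul_assoc _ τ, hc.eq, ← mul_assoc,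
        inv_mul_cancel, one_mul, hττ]
    have h2 : (p : G)⁻¹ * cj t p ∈ F.U := by
      have h := (hker _).1 h1
      simpa [cj, mul_assoc] using h
    rcases F.fixed_coset hp h2 with h | h
    · exact Or.inl ((hker p).2 h)
    · have h3 : π (⟨x, hPT F.B.hx⟩ * p) = 1 := (hker _).2 h
      rw [map_mul, ← hξ] at h3
      exact Or.inr ((eq_inv_of_mul_eq_one_right h3).trans hξi)
  have htP : t ∉ P := fun h => by
    have := F.hcu
    rcases F.B.invol_fix h (by rw [cj, ht, one_mul]) ht with h1 | h1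
    · rw [cj, h1, one_mul, mul_one, left_eq_mul] at this; exact F.B.z_ne this
    · rw [cj, h1, F.zu_comm.eq, mul_assoc, F.B.zz, mul_one, left_eq_mul] at this
      exact F.B.z_ne this
  have hτ1 : τ ≠ 1 := fun h => htP (F.U_le ((hker _).1 h))
  have hξ1 : ξ ≠ 1 := fun h => F.x_notMemU ((hker _).1 h)
  have hτξ' : τ ≠ ξ := fun h => htP (by
    have h2 := F.U_le ((hker _).1 (by rw [map_mul, map_inv, ← hτ, ← hξ, h, inv_mul_cancel] :
      π ((⟨x, hPT F.B.hx⟩ : T)⁻¹ * ⟨t, htT⟩) = 1))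
    have h3 : x * (x⁻¹ * t) ∈ P := mul_mem F.B.hx h2
    rwa [mul_inv_cancel_left] at h3)
  set K := four τ ξ hττ hξξ hτξ with hK
  have hKcard : Nat.card K = 2 ^ 2 := by
    classical
    have hset : (K : Set (T ⧸ F.U.subgroupOf T)) =
        ((({1, τ, ξ, τ * ξ} : Finset (T ⧸ F.U.subgroupOf T))) : Set (T ⧸ F.U.subgroupOf T)) := by
      ext q
      rw [SetLike.mem_coe, hK, mem_four]
      simp
    rw [← SetLike.coe_sort_coe, hset, Nat.card_coe_set_eq, Set.ncard_coe_finset]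
    have h5 : τ * ξ ≠ 1 := fun h => hτξ' ((eq_inv_of_mul_eq_one_left h).trans hξi)
    simp [hτ1, hξ1, hτξ', hτ1.symm, hξ1.symm, h5.symm]
  have hC : centralizer (K : Set (T ⧸ F.U.subgroupOf T)) = K := by
    apply le_antisymm
    · intro c hc
      have hct : Commute τ c := mem_centralizer_iff.1 hc τ (Or.inr (Or.inl rfl))
      obtain ⟨s, rfl⟩ := QuotientGroup.mk'_surjective _ c
      rcases s.2 with hs | hs
      · rcases hfix s hs hct with h | h <;> rw [← hπ, h]
        · exact one_mem _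
        · exact Or.inr (Or.inr (Or.inl rfl))
      · have h1 : Commute τ (π (⟨t, htT⟩ * s)) := by
          rw [map_mul, ← hτ]; exact (Commute.refl τ).mul_right hct
        have h2 := hfix _ hs h1
        rw [map_mul, ← hτ] at h2
        have hmem : τ * π s ∈ K := by
          rcases h2 with h | h <;> rw [h]
          · exact one_mem _
          · exact Or.inr (Or.inr (Or.inl rfl))
        have := mul_mem (show τ ∈ K from Or.inr (Or.inl rfl)) hmem
        rwa [← mul_assoc, hττ, one_mul] at this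
    · intro c hc
      refine mem_centralizer_iff.2 fun d hd => ?_
      rcases hc with rfl | rfl | rfl | rfl <;> rcases hd with rfl | rfl | rfl | rfl <;>
        first
          | simp only [one_mul, mul_one]
          | exact hτξ.eq
          | exact hτξ.symm.eq
          | exact ((Commute.refl τ).mul_right hτξ).eq
          | exact ((Commute.refl τ).mul_right hτξ).symm.eq
          | exact (hτξ.symm.mul_right (Commute.refl ξ)).eq
          | exact (hτξ.symm.mul_right (Commute.refl ξ)).symm.eq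
  obtain ⟨n, hn⟩ := IsPGroup.iff_card.1 (hT2.to_quotient (F.U.subgroupOf T))
  by_cases htop : K = ⊤
  · refine ⟨x, F.B.hx, 1, one_mem P, ⟨1, 1, one_mem _, by group⟩, fun p hp => ?_⟩
    have hcp : Commute τ (π ⟨p, hPT hp⟩) := by
      have h : π ⟨p, hPT hp⟩ ∈ centralizer (K : Set (T ⧸ F.U.subgroupOf T)) := by
        rw [hC, htop]; exact mem_top _
      exact mem_centralizer_iff.1 h τ (Or.inr (Or.inl rfl))
    rcases hfix _ hp hcp with h | h
    · exact ⟨0, p, (hker _).1 h, Or.inl (by rw [zpow_zero, one_mul])⟩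
    · have h1 : π ((⟨x, hPT F.B.hx⟩ : T)⁻¹ * ⟨p, hPT hp⟩) = 1 := by
        rw [map_mul, map_inv, ← hξ, h, inv_mul_cancel]
      exact ⟨1, x⁻¹ * p, (hker _).1 h1, Or.inl (by rw [zpow_one, mul_inv_cancel_left])⟩
  have hn3 : 3 ≤ n := by
    by_contra hlt
    refine htop (eq_top_of_le_card K ?_)
    rw [hn, hKcard]
    exact Nat.pow_le_pow_right (by norm_num) (by omega)
  obtain ⟨C, hCcyc, hCi⟩ := Cfsg.Agent.S0113.result n hn3 hn
    (Cfsg.Agent.S0112.result n hn K hKcard hC)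
  haveI hCn : C.Normal := normal_of_index_eq_two hCi
  haveI := hCcyc
  set D := (P.subgroupOf T).map π ⊓ C
  haveI : IsCyclic D :=
    isCyclic_of_injective (inclusion (inf_le_right : D ≤ C)) (inclusion_injective _)
  obtain ⟨⟨γ, hγ⟩, hgen⟩ := IsCyclic.exists_generator (α := D)
  obtain ⟨⟨g, hgT⟩, hgP, rfl⟩ := hγ.1
  have hpow : ∀ q ∈ D, ∃ k : ℤ, q = π ⟨g, hgT⟩ ^ k := by
    intro q hq
    obtain ⟨k, hk⟩ := mem_zpowers_iff.1 (hgen ⟨q, hq⟩)
    exact ⟨k, (congrArg Subtype.val hk).symm⟩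
  obtain ⟨h, hhP, hcov⟩ : ∃ h, ∃ hh : h ∈ P, ∀ (p : G) (hp : p ∈ P),
      π ⟨p, hPT hp⟩ ∈ C ∨ π (⟨h, hPT hh⟩⁻¹ * ⟨p, hPT hp⟩) ∈ C := by
    by_cases hall : ∀ (p : G) (hp : p ∈ P), π ⟨p, hPT hp⟩ ∈ C
    · exact ⟨1, one_mem P, fun p hp => Or.inl (hall p hp)⟩
    · push Not at hall
      obtain ⟨h, hh, hhC⟩ := hall
      refine ⟨h, hh, fun p hp => ?_⟩
      by_cases hpC : π ⟨p, hPT hp⟩ ∈ C
      · exact Or.inl hpC
      · refine Or.inr ?_
        rw [map_mul, map_inv, mul_mem_iff_of_index_two hCi, C.inv_mem_iff]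
        exact iff_of_false hhC hpC
  have hext : ∀ (q : G) (hq : q ∈ P), π ⟨q, hPT hq⟩ ∈ C → ∃ k : ℤ, ∃ w ∈ F.U, q = g ^ k * w := by
    intro q hq hqC
    obtain ⟨k, hk⟩ := hpow _ ⟨⟨_, hq, rfl⟩, hqC⟩
    refine ⟨k, (g ^ k)⁻¹ * q, ?_, (mul_inv_cancel_left _ _).symm⟩
    exact (hker (((⟨g, hgT⟩ : T) ^ k)⁻¹ * ⟨q, hPT hq⟩)).1 (by
      rw [map_mul, map_inv, map_zpow, hk, inv_mul_cancel])
  refine ⟨g, hgP, h, hhP, ?_, fun p hp => ?_⟩
  · have hgh : h * g * h⁻¹ ∈ P := mul_mem (mul_mem hhP hgP) (inv_mem hhP)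
    refine hext _ hgh ?_
    have h1 := hCn.conj_mem _ hγ.2 (π ⟨h, hPT hhP⟩)
    rwa [← map_inv, ← map_mul, ← map_mul] at h1
  · rcases hcov p hp with hc | hc
    · obtain ⟨k, w, hw, he⟩ := hext p hp hc
      exact ⟨k, w, hw, Or.inl he⟩
    · obtain ⟨k, w, hw, he⟩ := hext (h⁻¹ * p) (mul_mem (inv_mem hhP) hp) hc
      exact ⟨k, w, hw, Or.inr (by rw [← he, mul_inv_cancel_left])⟩

theorem false_of_not_fused (hnf : ¬ Fused A (x * x) u) : False := by
  obtain ⟨g, hg, h, hh, ⟨b, w, hw, hb⟩, hcov⟩ := F.exists_gens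
  have hUc : ∀ {p v : G}, p ∈ P → v ∈ F.U → Commute p v := fun hp hv =>
    F.U_comm hp (F.u_comm hnf hp) hv
  set c := h * g * h⁻¹ * g⁻¹ with hc
  have hcP : c ∈ P := mul_mem (mul_mem (mul_mem hh hg) (inv_mem hh)) (inv_mem hg)
  have hgw : Commute g w := hUc hg hw
  have hce : c = g ^ (b - 1) * w := by
    rw [hc, hb, mul_assoc, hgw.symm.inv_right.eq, ← mul_assoc, ← zpow_sub_one]
  have hgc : Commute g c := by
    rw [hce]; exact ((Commute.refl g).zpow_right _).mul_right hgw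
  have hhc : h * c * h⁻¹ = c ^ b := by
    have hwb : Commute (g ^ (b - 1)) w := hgw.zpow_left _
    have e1 : h * c * h⁻¹ = (h * g * h⁻¹) ^ (b - 1) * (h * w * h⁻¹) := by
      rw [conj_zpow, hce]; group
    rw [e1, hb, (hUc hh hw).eq, mul_inv_cancel_right, (hgw.zpow_left b).mul_zpow, hce, hwb.mul_zpow,
      mul_assoc, ← zpow_add_one, sub_add_cancel, ← zpow_mul, ← zpow_mul, mul_comm b (b - 1)]
  set K := zpowers c
  have hKn : ∀ p ∈ P, p * c * p⁻¹ ∈ K := by
    intro p hp
    obtain ⟨k, v, hv, rfl | rfl⟩ := hcov p hp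
    all_goals
      have hkc : g ^ k * v * c * (g ^ k * v)⁻¹ = c := by
        rw [((hgc.zpow_left k).mul_left (hUc hcP hv).symm).eq, mul_inv_cancel_right]
    · rw [hkc]; exact mem_zpowers c
    · rw [show h * (g ^ k * v) * c * (h * (g ^ k * v))⁻¹ =
        h * (g ^ k * v * c * (g ^ k * v)⁻¹) * h⁻¹ by group, hkc, hhc]
      exact zpow_mem (mem_zpowers c) b
  haveI hKN : (K.subgroupOf P).Normal := ⟨fun v hv p => by
    obtain ⟨j, hj⟩ := mem_zpowers_iff.1 hv
    show (p : G) * v * (p : G)⁻¹ ∈ K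
    rw [show ((v : P) : G) = c ^ j from hj.symm, ← conj_zpow]
    exact zpow_mem (hKn p p.2) j⟩
  set ρ := QuotientGroup.mk' (K.subgroupOf P) with hρ
  have hgh : Commute (ρ ⟨g, hg⟩) (ρ ⟨h, hh⟩) := by
    have h1 : ρ (⟨h, hh⟩ * ⟨g, hg⟩ * ⟨h, hh⟩⁻¹ * ⟨g, hg⟩⁻¹) = 1 :=
      (QuotientGroup.eq_one_iff _).2 (mem_zpowers c)
    rw [map_mul, map_mul, map_mul, map_inv, map_inv] at h1
    exact (mul_inv_eq_iff_eq_mul.1 (mul_inv_eq_one.1 h1)).symm
  have hvc : ∀ (v : G) (hv : v ∈ F.U) (q : P), Commute (ρ ⟨v, F.U_le hv⟩) (ρ q) :=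
    fun v hv q => (Subtype.ext (hUc q.2 hv).symm.eq :
      (⟨v, F.U_le hv⟩ : P) * q = q * ⟨v, F.U_le hv⟩) |> fun e => by
        show _ * _ = _ * _
        rw [← map_mul, ← map_mul, e]
  -- every element commutes with the generators in the quotient
  have hqh : ∀ q : P, Commute (ρ q) (ρ ⟨g, hg⟩) ∧ Commute (ρ q) (ρ ⟨h, hh⟩) := by
    intro q
    obtain ⟨k, v, hv, he⟩ := hcov q q.2
    have hv' := hvc v hv
    rcases he with he | he
    · rw [show q = ⟨g, hg⟩ ^ k * ⟨v, F.U_le hv⟩ from Subtype.ext he, map_mul, map_zpow]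
      exact ⟨((Commute.refl _).zpow_left k).mul_left (hv' _), (hgh.zpow_left k).mul_left (hv' _)⟩
    · rw [show q = ⟨h, hh⟩ * (⟨g, hg⟩ ^ k * ⟨v, F.U_le hv⟩) from Subtype.ext he, map_mul,
        map_mul, map_zpow]
      exact ⟨hgh.symm.mul_left (((Commute.refl _).zpow_left k).mul_left (hv' _)),
        (Commute.refl _).mul_left ((hgh.zpow_left k).mul_left (hv' _))⟩
  have hle : commutator P ≤ K.subgroupOf P := by
    rw [commutator_def, commutator_le]
    intro q _ r _
    refine (QuotientGroup.eq_one_iff _).1 ?_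
    show ρ ⁅q, r⁆ = 1
    rw [map_commutatorElement, commutatorElement_eq_one_iff_commute]
    obtain ⟨k, v, hv, he⟩ := hcov r r.2
    rcases he with he | he
    · rw [show r = ⟨g, hg⟩ ^ k * ⟨v, F.U_le hv⟩ from Subtype.ext he, map_mul, map_zpow]
      exact ((hqh q).1.zpow_right k).mul_right (hvc v hv q).symm
    · rw [show r = ⟨h, hh⟩ * (⟨g, hg⟩ ^ k * ⟨v, F.U_le hv⟩) from Subtype.ext he, map_mul,
        map_mul, map_zpow]
      exact (hqh q).2.mul_right (((hqh q).1.zpow_right k).mul_right (hvc v hv q).symm)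
  -- the two central involutions lie in the derived subgroup
  have hodd : Odd (P.subgroupOf A).index := F.B.odd
  let e := subgroupOfEquivOfLe F.B.le
  have hmem : ∀ {a : G} (ha : a ∈ P), a * a = 1 → (⟨a, F.B.le ha⟩ : A) ∈ center A → a ∈ K := by
    intro a ha haa hac
    have h1 := F.B.semis.mem_commutator_of_central (P.subgroupOf A) hodd
      (w := ⟨a, F.B.le ha⟩) (Subtype.ext haa) ha hac
    have hm : (commutator (P.subgroupOf A)).map e.toMonoidHom = commutator P := by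
      rw [_root_.commutator_def, _root_.commutator_def, map_commutator,
        map_top_of_surjective e.toMonoidHom e.surjective]
    have h2 : e.toMonoidHom ⟨⟨a, F.B.le ha⟩, ha⟩ ∈ commutator P := hm ▸ mem_map_of_mem _ h1
    exact hle h2
  obtain ⟨i, hi⟩ := mem_zpowers_iff.1 (hmem F.B.z_mem F.B.zz (F.central_z hnf))
  obtain ⟨j, hj⟩ := mem_zpowers_iff.1 (hmem F.hu F.huu (F.central_u hnf))
  classical
  haveI : Fintype K := Fintype.ofFinite _
  have hle2 := IsCyclic.card_pow_eq_one_le (α := K) (n := 2) (by norm_num)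
  have h3 : ({1, ⟨x * x, i, hi⟩, ⟨u, j, hj⟩} : Finset K) ⊆
      Finset.univ.filter (fun q : K => q ^ 2 = 1) := by
    intro q hq
    simp only [Finset.mem_insert, Finset.mem_singleton] at hq
    refine Finset.mem_filter.2 ⟨Finset.mem_univ _, Subtype.ext ?_⟩
    rcases hq with rfl | rfl | rfl
    · simp
    · exact (sq _).trans F.B.zz
    · exact (sq _).trans F.huu
  have hcard := (Finset.card_le_card h3).trans hle2
  rw [Finset.card_insert_of_notMem (by
      simp [Subtype.ext_iff, F.B.z_ne.symm, F.u_ne.symm]),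
    Finset.card_insert_of_notMem (by simp [Subtype.ext_iff, F.u_ne_z.symm]),
    Finset.card_singleton] at hcard
  omega

end Pair

end CfsgLib.InvolFixFour
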