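import Cfsg.Agent.InvolFixFour.Basic

/-!
A `t`-invariant four-group moved by the fixed element of order 4 leads to a contradiction.
-/

set_option autoImplicit false
set_option linter.unusedSectionVars false
set_option linter.style.haveILetI false

namespace CfsgLib.InvolFixFour

open Subgroup

variable {G : Type*} [Group G] [Finite G] {A : Subgroup G} {t : G}

/-- The four-group generated by two commuting involutions, as an explicit subgroup. -/
def four (a b : G) (ha : a * a = 1) (hb : b * b = 1) (hc : Commute a b) : Subgroup G where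
  carrier := {p | p = 1 ∨ p = a ∨ p = b ∨ p = a * b}
  one_mem' := Or.inl rfl
  mul_mem' := by
    have e1 : a * (a * b) = b := by rw [← mul_assoc, ha, one_mul]
    have e2 : b * (a * b) = a := by rw [hc.eq, ← mul_assoc, hb, one_mul]
    have e3 : a * b * a = b := by rw [hc.eq, mul_assoc, ha, mul_one]
    have e4 : a * b * b = a := by rw [mul_assoc, hb, mul_one]
    have e5 : a * b * (a * b) = 1 := by rw [← mul_assoc, e3, hb]
    have e6 : b * a = a * b := hc.eq.symm
    rintro p q (rfl | rfl | rfl | rfl) (rfl | rfl | rfl | rfl) <;>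
      simp [ha, hb, e1, e2, e3, e4, e5, e6]
  inv_mem' := by
    rintro p (rfl | rfl | rfl | rfl)
    · exact Or.inl inv_one
    · exact Or.inr (Or.inl (inv_eq_of_mul_eq_one_right ha))
    · exact Or.inr (Or.inr (Or.inl (inv_eq_of_mul_eq_one_right hb)))
    · refine Or.inr (Or.inr (Or.inr ?_))
      rw [mul_inv_rev, inv_eq_of_mul_eq_one_right ha, inv_eq_of_mul_eq_one_right hb, hc.eq]

theorem mem_four {a b : G} {ha : a * a = 1} {hb : b * b = 1} {hc : Commute a b} {p : G} :
    p ∈ four a b ha hb hc ↔ p = 1 ∨ p = a ∨ p = b ∨ p = a * b := Iff.rfl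

theorem card_four_le (a b : G) (ha : a * a = 1) (hb : b * b = 1) (hc : Commute a b) :
    Nat.card (four a b ha hb hc) ≤ 4 := by
  classical
  have h : ((four a b ha hb hc : Subgroup G) : Set G) ⊆
      ↑({1, a, b, a * b} : Finset G) := by
    rintro p (rfl | rfl | rfl | rfl) <;> simp
  have h2 := Set.ncard_le_ncard h (Finset.finite_toSet _)
  rw [Set.ncard_coe_finset, ← Nat.card_coe_set_eq] at h2
  exact h2.trans Finset.card_le_four

/-- The subgroup `A⟨t⟩`, elementwise. -/
theorem mem_sup_invol (hA : A.Normal) (ht : t * t = 1) {c : G} (hc : c ∈ A ⊔ zpowers t) :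
    c ∈ A ∨ t * c ∈ A := by
  haveI := hA
  rw [← SetLike.mem_coe, normal_mul] at hc
  obtain ⟨a, ha, s, hs, rfl⟩ := hc
  obtain ⟨j, rfl⟩ := mem_zpowers_iff.1 hs
  have hti : t⁻¹ = t := inv_eq_of_mul_eq_one_right ht
  rcases Int.even_or_odd' j with ⟨l, rfl | rfl⟩
  · left; rw [zpow_mul, zpow_two, ht, one_zpow]; simpa using ha
  · right
    show t * (a * t ^ (2 * l + 1)) ∈ A
    rw [zpow_add, zpow_mul, zpow_two, ht, one_zpow, one_mul, zpow_one, ← mul_assoc]
    have := hA.conj_mem a ha t
    rwa [hti] at this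

namespace Base

variable {P : Subgroup G} {x : G} (B : Base A t P x)
include B

/-- A `t`-invariant four-group moved by `x` gives a contradiction. -/
theorem false_of_moved {u : G} (hu : u ∈ P) (huu : u * u = 1) (hcu : cj t u = u * (x * x))
    (hxu : x * u * x⁻¹ = u * (x * x)) (hzu : Fused A (x * x) u)
    (hC : ∀ a ∈ P, a * a = 1 → a ≠ 1 → a ≠ x * x → ∀ b ∈ P, Commute a b →
      b = 1 ∨ b = x * x ∨ b = a ∨ b = x * x * a) : False := by
  haveI : Fact (Nat.Prime 2) := ⟨Nat.prime_two⟩
  have ht := B.tt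
  set z := x * x with hz
  have hzu' : Commute z u := B.z_central hu
  have hune : u ≠ 1 := by
    rintro rfl
    rw [cj_one ht, one_mul] at hcu
    exact B.z_ne hcu.symm
  have hunz : u ≠ z := by
    rintro rfl
    rw [B.cj_z] at hcu
    exact B.z_ne (left_eq_mul.1 hcu)
  have htA : t ∉ A := fun htA => by
    have hT : IsPGroup 2 (zpowers t) := fun ⟨s, hs⟩ => by
      obtain ⟨j, rfl⟩ := mem_zpowers_iff.1 hs
      refine ⟨1, Subtype.ext ?_⟩
      show (t ^ j) ^ 2 ^ 1 = 1
      rw [pow_one, ← zpow_natCast, zpow_comm, zpow_natCast, sq, ht, one_zpow]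
    have hti : t⁻¹ = t := inv_eq_of_mul_eq_one_right ht
    have hnorm : zpowers t ≤ normalizer (P : Set G) := by
      rw [zpowers_le, mem_normalizer_iff]
      intro p
      rw [hti]
      exact ⟨B.inv p, fun h => by have := B.inv _ h; rwa [cj, show t * (t * p * t) * t =
        t * t * p * (t * t) by group, ht, one_mul, mul_one] at this⟩
    have htP : t ∈ P := B.le_of_two (hT.to_sup_of_normal_right' B.two hnorm)
      (sup_le (zpowers_le.2 htA) B.le) le_sup_right (mem_sup_left (mem_zpowers t))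
    have htfix : cj t t = t := by rw [cj, ht, one_mul]
    rcases B.invol_fix htP htfix ht with h | h
    · rw [cj, h, one_mul, mul_one, left_eq_mul] at hcu; exact B.z_ne hcu
    · rw [cj, h, hzu'.eq, mul_assoc, B.zz, mul_one, left_eq_mul] at hcu; exact B.z_ne hcu
  -- an element moving `z`
  obtain ⟨n, hn, hnz⟩ := hzu.symm
  have hnzP : n * z * n⁻¹ ∈ A := mul_mem (mul_mem hn (B.le B.z_mem)) (inv_mem hn)
  obtain ⟨m, hm, hmz, hmP⟩ := B.into_of_central (w := z) (fun p hp => B.z_central hp)
    (R := zpowers (n * z * n⁻¹)) (fun ⟨s, hs⟩ => by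
      obtain ⟨j, rfl⟩ := mem_zpowers_iff.1 hs
      refine ⟨1, Subtype.ext ?_⟩
      show ((n * z * n⁻¹) ^ j) ^ 2 ^ 1 = 1
      rw [pow_one, ← zpow_natCast, zpow_comm, zpow_natCast, sq, conj_mul, B.zz, mul_one,
        mul_inv_cancel, one_zpow])
    (zpowers_le.2 hnzP) (by
      rintro r ⟨j, rfl⟩
      refine Commute.zpow_right ?_ j
      have h := hzu'.symm.conj n
      rwa [hnz] at h)
  set a := m * (n * z * n⁻¹) * m⁻¹ with ha
  have haP : a ∈ P := hmP _ (mem_zpowers _)
  set k := m * n with hk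
  have hkA : k ∈ A := mul_mem hm hn
  have hku : k * u * k⁻¹ = z := by
    rw [hk, show m * n * u * (m * n)⁻¹ = m * (n * u * n⁻¹) * m⁻¹ by group, hnz, hmz]
  have hkz : k * z * k⁻¹ = a := by rw [hk, ha]; group
  have haa : a * a = 1 := by rw [← hkz, conj_mul, B.zz, mul_one, mul_inv_cancel]
  have ha1 : a ≠ 1 := fun h => B.z_ne (conj_eq_one_iff.1 (hkz.trans h))
  have haz : a ≠ z := fun h => hunz (mul_left_cancel (mul_right_cancel
    (hku.trans (hkz.trans h).symm)))
  have hza : Commute z a := B.z_central haP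
  set Ua := four z a B.zz haa hza with hUa
  have hUaP : Ua ≤ P := by
    rintro p (rfl | rfl | rfl | rfl)
    exacts [one_mem P, B.z_mem, haP, mul_mem B.z_mem haP]
  have hUne : Ua ≠ P := fun h => by
    have hx' : x ∈ Ua := h ▸ B.hx
    have hu' : u ∈ Ua := h ▸ hu
    have hcomm : Commute x u := by
      rcases hx' with h1 | h1 | h1 | h1 <;> rcases hu' with h2 | h2 | h2 | h2 <;> subst u <;>
        rw [h1] <;>
        first
          | exact Commute.one_left _
          | exact Commute.one_right _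
          | exact Commute.refl _
          | exact hza
          | exact hza.symm
          | exact (Commute.refl z).mul_right hza
          | exact ((Commute.refl z).mul_right hza).symm
          | exact hza.symm.mul_right (Commute.refl a)
          | exact (hza.symm.mul_right (Commute.refl a)).symm
    rw [hcomm.eq, mul_inv_cancel_right, left_eq_mul] at hxu
    exact B.z_ne hxu
  haveI : Group.IsNilpotent P := B.two.isNilpotent
  obtain ⟨⟨q, hqP⟩, hqN, hqU⟩ := SetLike.exists_of_lt
    (Group.normalizerCondition_of_isNilpotent (Ua.subgroupOf P) (lt_top_iff_ne_top.2 fun h =>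
      hUne (le_antisymm hUaP (subgroupOf_eq_top.1 h))))
  have hqa : q * a * q⁻¹ ∈ Ua := by
    have := (mem_normalizer_iff.1 hqN ⟨a, haP⟩).1 (Or.inr (Or.inr (Or.inl rfl)))
    exact this
  have hqz : q * z * q⁻¹ = z := by rw [(B.z_central hqP).eq.symm, mul_inv_cancel_right]
  have hqaz : q * a * q⁻¹ = z * a := by
    rcases hqa with h | h | h | h
    · exact absurd (conj_eq_one_iff.1 h) ha1
    · exact absurd (mul_left_cancel (mul_right_cancel (h.trans hqz.symm))) haz
    · refine absurd ?_ hqU
      show q ∈ Ua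
      exact hC a haP haa ha1 haz q hqP (mul_inv_eq_iff_eq_mul.1 h).symm
    · exact h
  set n0 := k⁻¹ * q * k with hn0
  have hn0A : n0 ∈ A := mul_mem (mul_mem (inv_mem hkA) (B.le hqP)) hkA
  have hu' : u = k⁻¹ * z * k := by rw [← hku]; group
  have hz' : z = k⁻¹ * a * k := by rw [← hkz]; group
  have hn0u : n0 * u * n0⁻¹ = u := by
    rw [hu', hn0, show k⁻¹ * q * k * (k⁻¹ * z * k) * (k⁻¹ * q * k)⁻¹ = k⁻¹ * (q * z * q⁻¹) * k by
      group, hqz]
  have hn0z : n0 * z * n0⁻¹ = u * z := by
    conv_lhs => rw [hz']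
    rw [hn0, show k⁻¹ * q * k * (k⁻¹ * a * k) * (k⁻¹ * q * k)⁻¹ = k⁻¹ * (q * a * q⁻¹) * k by
      group, hqaz, hu']
    conv_rhs => arg 2; rw [hz']
    group
  -- the centraliser of the four-group
  set U := four z u B.zz huu hzu' with hU
  set W0 := A ⊔ zpowers t
  set C := centralizer ({z, u} : Set G) ⊓ W0 with hC'
  set r := t * x with hr
  have hCmem : ∀ {c : G}, c ∈ C → Commute z c ∧ Commute u c := fun hc =>
    ⟨mem_centralizer_iff.1 hc.1 z (Or.inl rfl), mem_centralizer_iff.1 hc.1 u (Or.inr rfl)⟩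
  have hmemC : ∀ {c : G}, Commute z c → Commute u c → c ∈ W0 → c ∈ C := fun h1 h2 h3 =>
    ⟨mem_centralizer_iff.2 (by rintro y (rfl | rfl); exacts [h1.eq, h2.eq]), h3⟩
  have hti : t⁻¹ = t := inv_eq_of_mul_eq_one_right ht
  have htx : t * x = x * t := by
    have := congrArg (· * t) B.hxt
    simp only [cj, mul_assoc, ht, mul_one] at this
    exact this
  have hrr : r * r = z := by
    rw [hr]
    nth_rw 2 [htx]
    rw [mul_assoc, ← mul_assoc x x t, ← mul_assoc, ← hz]
    have : t * z * t = z := B.cj_z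
    exact this
  have hrz : Commute z r := by
    rw [← hrr]; exact (Commute.refl r).mul_left (Commute.refl r)
  have hru : Commute u r := by
    have h1 : r * u * r⁻¹ = u := by
      rw [hr, show t * x * u * (t * x)⁻¹ = t * (x * u * x⁻¹) * t⁻¹ by group, hxu, hti]
      show cj t (u * z) = u
      rw [cj_mul ht, hcu, B.cj_z, mul_assoc, B.zz, mul_one]
    exact (mul_inv_eq_iff_eq_mul.1 h1).symm
  have hrC : r ∈ C :=
    hmemC hrz hru (mul_mem (mem_sup_right (mem_zpowers t)) (mem_sup_left (B.le B.hx)))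
  have hUC : ∀ w ∈ U, w ∈ A ∧ w ∈ C := by
    intro w hw
    have h1 : w ∈ P := by
      rcases hw with rfl | rfl | rfl | rfl
      exacts [one_mem P, B.z_mem, hu, mul_mem B.z_mem hu]
    refine ⟨B.le h1, hmemC (B.z_central h1) ?_ (mem_sup_left (B.le h1))⟩
    rcases hw with rfl | rfl | rfl | rfl
    exacts [Commute.one_right _, hzu'.symm, Commute.refl _, hzu'.symm.mul_right (Commute.refl _)]
  have hrA : r ∉ A := fun h => htA (by
    have := mul_mem h (inv_mem (B.le B.hx))
    rwa [hr, mul_inv_cancel_right] at this)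
  have hrU : ∀ w ∈ U, Commute r w := fun w hw => by
    rcases hw with rfl | rfl | rfl | rfl
    exacts [Commute.one_right _, hrz.symm, hru.symm, hrz.symm.mul_right hru.symm]
  let W : Subgroup G :=
  { carrier := {p | p ∈ U ∨ r * p ∈ U}
    one_mem' := Or.inl (one_mem U)
    mul_mem' := by
      have hzU : z ∈ U := Or.inr (Or.inl rfl)
      rintro p q (hp | hp) (hq | hq)
      · exact Or.inl (mul_mem hp hq)
      · refine Or.inr ?_
        rw [← mul_assoc, (hrU p hp).eq, mul_assoc]; exact mul_mem hp hq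
      · exact Or.inr (by rw [← mul_assoc]; exact mul_mem hp hq)
      · refine Or.inl ?_
        have h : r * p * (r * q) = z * (p * q) := by
          have hpr : r * (r * p) = r * p * r := (hrU _ hp).eq
          rw [← mul_assoc (r * p) r q, ← hpr, ← mul_assoc, hrr, mul_assoc]
        have h2 : p * q = z * (r * p * (r * q)) := by rw [h, ← mul_assoc, B.zz, one_mul]
        rw [h2]
        exact mul_mem hzU (mul_mem hp hq)
    inv_mem' := by
      rintro p (hp | hp)
      · exact Or.inl (inv_mem hp)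
      · refine Or.inr ?_
        have hzU : z ∈ U := Or.inr (Or.inl rfl)
        have hc : Commute r p⁻¹ := by
          have h1 : Commute r (r * p) := hrU _ hp
          have h2 : Commute r p := by
            have := (Commute.inv_right (Commute.refl r)).mul_right h1
            rwa [inv_mul_cancel_left] at this
          exact h2.inv_right
        have : r * p⁻¹ = z * (r * p)⁻¹ := by
          rw [mul_inv_rev, ← hrr, show r * r * (p⁻¹ * r⁻¹) = r * (r * p⁻¹) * r⁻¹ by group]
          conv_rhs => rw [hc.eq]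
          group
        rw [this]; exact mul_mem hzU (inv_mem hp) }
  have hWsq : ∀ w ∈ W, w * w = 1 ∨ w * w = z := by
    have hU2 : ∀ p ∈ U, p * p = 1 := by
      rintro p (rfl | rfl | rfl | rfl)
      exacts [one_mul 1, B.zz, huu, by rw [hzu'.symm.mul_mul_mul_comm, B.zz, huu, one_mul]]
    rintro w (hw | hw)
    · exact Or.inl (hU2 w hw)
    · refine Or.inr ?_
      have h := hU2 _ hw
      have h1 : r * (r * w) = r * w * r := (hrU _ hw).eq
      rw [← mul_assoc (r * w) r w, ← h1, ← mul_assoc, hrr] at h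
      calc w * w = z * (z * w * w) := by rw [← mul_assoc, ← mul_assoc, B.zz, one_mul]
        _ = z := by rw [h, mul_one]
  have hW2 : IsPGroup 2 W := fun ⟨w, hw⟩ => ⟨2, Subtype.ext (by
    show w ^ 2 ^ 2 = 1
    rw [show (2 : ℕ) ^ 2 = 2 * 2 from rfl, pow_mul, sq w]
    rcases hWsq w hw with h | h <;> rw [h, sq]
    · exact one_mul 1
    · exact B.zz)⟩
  have hWC : W ≤ C := by
    rintro w (hw | hw)
    · exact (hUC w hw).2
    · have := mul_mem (inv_mem hrC) (hUC _ hw).2
      rwa [inv_mul_cancel_left] at this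
  -- a 2-subgroup of `C` containing `W` is `W`
  have hodd : Odd (W.relIndex C) := by
    obtain ⟨S, hS⟩ := (hW2.comap_subtype (K := C)).exists_le_sylow
    have hSC : (S : Subgroup C).map C.subtype ≤ W := by
      rintro _ ⟨⟨s, hs⟩, hsS, rfl⟩
      set T := ((S : Subgroup C).map C.subtype) ⊓ A with hT
      have hT2 : IsPGroup 2 T := (S.isPGroup'.map C.subtype).to_le inf_le_left
      have hTU : ∀ w ∈ T, w ∈ U := by
        obtain ⟨e, he, hez, heP⟩ := B.into_of_central (w := z) (fun p hp => B.z_central hp) hT2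
          inf_le_right (by
            rintro w ⟨⟨⟨w', hw'⟩, -, rfl⟩, -⟩
            exact (hCmem hw').1)
        have huT : u ∈ T := by
          have huU : u ∈ U := Or.inr (Or.inr (Or.inl rfl))
          exact ⟨⟨⟨u, (hUC u huU).2⟩, hS (show u ∈ W from Or.inl huU), rfl⟩, B.le hu⟩
        intro w hw
        have he1 : e * u * e⁻¹ * (e * u * e⁻¹) = 1 := by rw [conj_mul, huu, mul_one, mul_inv_cancel]
        have he2 : e * u * e⁻¹ ≠ 1 := fun h => hune (conj_eq_one_iff.1 h)
        have he3 : e * u * e⁻¹ ≠ z := fun h =>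
          hunz (mul_left_cancel (mul_right_cancel (h.trans hez.symm)))
        obtain ⟨⟨⟨w', hw'⟩, hwS, rfl⟩, hwA⟩ := hw
        have hcw := (hCmem hw').2
        rcases hC _ (heP u huT) he1 he2 he3 _ (heP w' ⟨⟨⟨w', hw'⟩, hwS, rfl⟩, hwA⟩)
          (hcw.conj e) with h | h | h | h
        · exact Or.inl (conj_eq_one_iff.1 h)
        · exact Or.inr (Or.inl (mul_left_cancel (mul_right_cancel (h.trans hez.symm))))
        · exact Or.inr (Or.inr (Or.inl (mul_left_cancel (mul_right_cancel h))))
        · refine Or.inr (Or.inr (Or.inr ?_))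
          have h' : e * w' * e⁻¹ = e * (z * u) * e⁻¹ := h.trans (by rw [← conj_mul, hez])
          exact mul_left_cancel (mul_right_cancel h')
      rcases mem_sup_invol B.cfg.normal ht hs.2 with h | h
      · exact Or.inl (hTU s ⟨⟨⟨s, hs⟩, hsS, rfl⟩, h⟩)
      · refine Or.inr (hTU _ ⟨⟨⟨r, hrC⟩ * ⟨s, hs⟩, mul_mem (hS ?_) hsS, rfl⟩, ?_⟩)
        · show r ∈ W
          refine Or.inr ?_
          rw [hrr]; exact Or.inr (Or.inl rfl)
        · show r * s ∈ A
          have := B.cfg.normal.conj_mem _ (B.le B.hx) t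
          rw [hti, show t * x * t = x from B.hxt] at this
          rw [hr, htx, mul_assoc]
          exact mul_mem (B.le B.hx) h
    have heq : (S : Subgroup C) = W.subgroupOf C := le_antisymm
      (fun s hs => hSC ⟨s, hs, rfl⟩) hS
    rw [relIndex, ← heq, ← Nat.not_even_iff_odd, even_iff_two_dvd]
    exact S.not_dvd_index
  -- conclusion
  have hn0C : n0 * r * n0⁻¹ ∈ C := by
    refine hmemC ?_ ?_ (mul_mem (mul_mem (mem_sup_left hn0A) hrC.2) (inv_mem (mem_sup_left hn0A)))
    · have hzw : z = n0 * (z * u) * n0⁻¹ := by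
        rw [← conj_mul, hn0z, hn0u, mul_assoc, hzu'.eq, ← mul_assoc, huu, one_mul]
      rw [hzw]
      exact (hrz.mul_left hru).conj n0
    · have := hru.conj n0
      rwa [hn0u] at this
  obtain ⟨e, he, heW⟩ := FourRankOne.conj_into hWC hW2 hodd (zpowers_le.2 hn0C)
    ((hW2.to_le (zpowers_le.2 (show r ∈ W from Or.inr (by rw [hrr]; exact Or.inr (Or.inl rfl))))).map
      (MulAut.conj n0).toMonoidHom |>.to_le (by
        rw [MonoidHom.map_zpowers]; exact le_rfl))
  have hez : e * z * e⁻¹ = z := by rw [(hCmem he).1.symm.eq, mul_inv_cancel_right]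
  have heu : e * u * e⁻¹ = u := by rw [(hCmem he).2.symm.eq, mul_inv_cancel_right]
  have hsq : e * (n0 * r * n0⁻¹) * e⁻¹ * (e * (n0 * r * n0⁻¹) * e⁻¹) = u * z := by
    rw [conj_mul, conj_mul, hrr, hn0z, ← conj_mul, heu, hez]
  rcases hWsq _ (heW _ (mem_zpowers _)) with h | h <;> rw [hsq] at h
  · exact hunz ((eq_inv_of_mul_eq_one_left h).trans B.z_inv)
  · exact hune (mul_eq_right.1 h)

end Base

end CfsgLib.InvolFixFour
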