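import Cfsg.Agent.InvolFixFour.Moved
import Cfsg.Agent.InvolFixFour.Frame

/-!
The case in which `t` moves the second involution by `z` and `x` centralises it: basic facts.
-/

set_option autoImplicit false
set_option linter.unusedSectionVars false
set_option linter.style.haveILetI false

namespace CfsgLib.InvolFixFour

open Subgroup

variable {G : Type*} [Group G] [Finite G] {A : Subgroup G} {t : G}

/-- `P` has exactly the three involutions `z`, `u`, `u z`, with `t` interchanging the last two and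
`x` centralising all of them. -/
structure Pair (A : Subgroup G) (t : G) (P : Subgroup G) (x u : G) : Prop where
  B : Base A t P x
  hu : u ∈ P
  huu : u * u = 1
  hcu : cj t u = u * (x * x)
  hxu : Commute x u
  invs : ∀ q ∈ P, q * q = 1 → q = 1 ∨ q = x * x ∨ q = u ∨ q = x * x * u

namespace Pair

variable {P : Subgroup G} {x u : G} (F : Pair A t P x u)
include F

theorem tt : t * t = 1 := F.B.tt

theorem u_ne : u ≠ 1 := fun h => by
  have := F.hcu
  rw [h, cj_one F.tt, one_mul] at this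
  exact F.B.z_ne this.symm

theorem u_ne_z : u ≠ x * x := fun h => by
  have := F.hcu
  rw [h, F.B.cj_z] at this
  exact F.B.z_ne (left_eq_mul.1 this)

theorem zu_comm : Commute (x * x) u := F.B.z_central F.hu

/-- The four-group of involutions. -/
def U : Subgroup G := four (x * x) u F.B.zz F.huu F.zu_comm

theorem mem_U {p : G} : p ∈ F.U ↔ p = 1 ∨ p = x * x ∨ p = u ∨ p = x * x * u := Iff.rfl

theorem z_memU : x * x ∈ F.U := Or.inr (Or.inl rfl)

theorem u_memU : u ∈ F.U := Or.inr (Or.inr (Or.inl rfl))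

theorem U_le : F.U ≤ P := by
  rintro p (rfl | rfl | rfl | rfl)
  exacts [one_mem P, F.B.z_mem, F.hu, mul_mem F.B.z_mem F.hu]

theorem U_sq {p : G} (hp : p ∈ F.U) : p * p = 1 := by
  rcases hp with rfl | rfl | rfl | rfl
  exacts [one_mul 1, F.B.zz, F.huu,
    by rw [F.zu_comm.symm.mul_mul_mul_comm, F.B.zz, F.huu, one_mul]]

theorem U_inv {p : G} (hp : p ∈ F.U) : p⁻¹ = p := inv_eq_of_mul_eq_one_right (F.U_sq hp)

theorem mem_U_of_sq {p : G} (hp : p ∈ P) (h : p * p = 1) : p ∈ F.U := F.invs p hp h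

theorem U_cj : ∀ p ∈ F.U, cj t p ∈ F.U := fun p hp =>
  F.mem_U_of_sq (F.B.inv p (F.U_le hp)) (by rw [← cj_mul F.tt, F.U_sq hp, cj_one F.tt])

theorem U_conj {p w : G} (hp : p ∈ P) (hw : w ∈ F.U) : p * w * p⁻¹ ∈ F.U :=
  F.mem_U_of_sq (mul_mem (mul_mem hp (F.U_le hw)) (inv_mem hp))
    (by rw [conj_mul, F.U_sq hw, mul_one, mul_inv_cancel])

theorem U_comm {p w : G} (hp : p ∈ P) (hpu : Commute p u) (hw : w ∈ F.U) : Commute p w := by
  rcases hw with rfl | rfl | rfl | rfl
  exacts [Commute.one_right _, (F.B.z_central hp).symm, hpu,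
    (F.B.z_central hp).symm.mul_right hpu]

theorem x_notMemU : x ∉ F.U := fun h => F.B.z_ne (F.U_sq h)

/-- Inverted elements of the four-group are fixed. -/
theorem U_inverted {d : G} (hd : d ∈ F.U) (hdd : cj t d * d = 1) : d = 1 ∨ d = x * x :=
  F.B.invol_fix (F.U_le hd) ((eq_inv_of_mul_eq_one_left hdd).trans (F.U_inv hd)) (F.U_sq hd)

/-- Fixed cosets of the four-group. -/
theorem fixed_coset {q : G} (hq : q ∈ P) (h : q⁻¹ * cj t q ∈ F.U) : q ∈ F.U ∨ x * q ∈ F.U := by
  have ht := F.tt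
  have key : ∀ p ∈ P, cj t p = p → p ∈ F.U ∨ x * p ∈ F.U := by
    intro p hp hc
    rcases F.B.fix_mem hp hc with h1 | h1 | h1 | h1 <;> rw [h1]
    · exact Or.inl (one_mem _)
    · exact Or.inr F.z_memU
    · exact Or.inl F.z_memU
    · exact Or.inr (by rw [mul_inv_cancel]; exact one_mem _)
  have hdd : cj t (q⁻¹ * cj t q) * (q⁻¹ * cj t q) = 1 := by
    rw [cj_mul ht, cj_inv ht, cj_cj ht]; group
  have hcq : cj t q = q * (q⁻¹ * cj t q) := (mul_inv_cancel_left q _).symm
  rcases F.U_inverted h hdd with h1 | h1 <;> rw [h1] at hcq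
  · exact key q hq (by rw [hcq, mul_one])
  · have hfix : cj t (q * u) = q * u := by
      rw [cj_mul ht, hcq, F.hcu, mul_assoc, ← mul_assoc (x * x) u, F.zu_comm.eq, mul_assoc u,
        F.B.zz, mul_one]
    rcases key _ (mul_mem hq F.hu) hfix with h2 | h2
    · exact Or.inl (by simpa [mul_assoc, F.huu] using mul_mem h2 F.u_memU)
    · exact Or.inr (by simpa [mul_assoc, F.huu] using mul_mem h2 F.u_memU)

end Pair

end CfsgLib.InvolFixFour
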