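import Cfsg.Agent.InvolFixFour.Frame
import Cfsg.Agent.InvolFixFour.Tools

/-!
A semidihedral Sylow subgroup: the basic structure.
-/

set_option autoImplicit false
set_option linter.unusedSectionVars false
set_option linter.style.haveILetI false

namespace CfsgLib.InvolFixFour

open Subgroup

variable {G : Type*} [Group G] [Finite G] {A : Subgroup G} {t : G}

namespace Frame

variable {P : Subgroup G} {x i : G} (F : Frame A t P x i)

/-- The relations of the semidihedral case. -/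
structure Semi (s r s0 j0 : ℤ) : Prop where
  hs : x * i * x⁻¹ = i * F.g ^ s
  hxg : x * F.g * x⁻¹ = F.g⁻¹
  hr : x * i * (x * i) = F.g ^ r
  hrr : F.g ^ (r * r) = F.g
  hs0 : s = 2 * s0 + 1
  hrj : r = 2 * j0 + 1

theorem gconj (m l : ℤ) : F.g ^ m * (i * F.g ^ l) * (F.g ^ m)⁻¹ = i * F.g ^ (l - 2 * m) := by
  rw [← mul_assoc, F.g_i, ← zpow_neg, mul_assoc i, ← zpow_add, mul_assoc i, ← zpow_add]
  congr 2; ring

theorem semi_of {e : G} (he : e = 1 ∨ e = x * x) (hxi : x * i * x⁻¹ = i * F.g * e)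
    (hxg : x * F.g * x⁻¹ = F.g⁻¹) : ∃ s r s0 j0 : ℤ, Semi F s r s0 j0 := by
  have ht := F.tt
  set z := x * x with hz
  have hzz : z * z = 1 := F.B.zz
  have hzc : ∀ p ∈ P, Commute z p := fun p hp => F.B.z_central hp
  set q : ℤ := ((orderOf F.g / 4 : ℕ) : ℤ)
  have hz2q : F.g ^ (2 * q) = z := F.z_eq
  have hg4q : F.g ^ (4 * q) = 1 := by
    rw [show 4 * q = 2 * q + 2 * q by ring, zpow_add, hz2q, hzz]
  obtain ⟨s, hs, r, hrj, hr, hrr, hsr⟩ : ∃ s : ℤ, x * i * x⁻¹ = i * F.g ^ s ∧ ∃ r : ℤ,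
      (∃ j : ℤ, r = 2 * j + 1) ∧ x * i * (x * i) = F.g ^ r ∧ F.g ^ (r * r) = F.g ∧
      ∃ j : ℤ, s = 2 * j + 1 := by
    have hsq : x * i * (x * i) = x * i * x⁻¹ * z * i := by rw [hz]; group
    rcases he with rfl | rfl
    · refine ⟨1, by rw [hxi, mul_one, zpow_one], 2 * q - 1, ⟨q - 1, by ring⟩, ?_, ?_, ⟨0, rfl⟩⟩
      · rw [hsq, hxi, mul_one, ← hz2q, mul_assoc i F.g, ← zpow_one_add, mul_assoc, F.g_i,
          ← mul_assoc, F.hii, one_mul, show -(1 + 2 * q) = 2 * q - 1 + -(4 * q) by ring, zpow_add,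
          zpow_neg _ (4 * q), hg4q, inv_one, mul_one]
      · rw [show (2 * q - 1) * (2 * q - 1) = 1 + 4 * q * (q - 1) by ring, zpow_add, zpow_mul, hg4q,
          one_zpow, mul_one, zpow_one]
    · refine ⟨1 + 2 * q, by rw [hxi, ← hz2q, mul_assoc, ← zpow_one_add], -1, ⟨-1, by ring⟩, ?_, ?_,
        ⟨q, by ring⟩⟩
      · rw [hsq, hxi, mul_assoc (i * F.g) z z, hzz, mul_one, mul_assoc,
          show F.g * i = i * F.g ^ (-1 : ℤ) by simpa using F.g_i 1, ← mul_assoc, F.hii, one_mul]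
      · rw [show (-1 : ℤ) * -1 = 1 from rfl, zpow_one]
  obtain ⟨j0, hrj⟩ := hrj
  obtain ⟨s0, hs0⟩ := hsr
  exact ⟨s, r, s0, j0, ⟨hs, hxg, hr, hrr, hs0, hrj⟩⟩

namespace Semi

variable {F} {s r s0 j0 : ℤ} (S : Semi F s r s0 j0)
include S

theorem xgz (m : ℤ) : x * F.g ^ m * x⁻¹ = F.g ^ (-m) := by
  rw [← conj_zpow, S.hxg, inv_zpow, zpow_neg]

theorem cg (m : ℤ) : Commute (x * i) (F.g ^ m) := mul_inv_eq_iff_eq_mul.1 (by
  rw [show x * i * F.g ^ m * (x * i)⁻¹ = x * (i * F.g ^ m * i⁻¹) * x⁻¹ by group, F.conj_g, S.xgz,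
    neg_neg])

theorem ix : i * x = x * i * F.g ^ s := by
  rw [mul_assoc, ← S.hs, show x * (x * i * x⁻¹) = (x * x) * i * x⁻¹ by group,
    (F.B.z_central F.hi).eq]
  group

theorem x_sq (m : ℤ) : x * F.g ^ m * (x * F.g ^ m) = x * x := by
  rw [show x * F.g ^ m * (x * F.g ^ m) = x * F.g ^ m * x⁻¹ * (x * x) * F.g ^ m by group, S.xgz,
    ← (F.B.z_central (zpow_mem F.g_mem _)).eq, mul_assoc (x * x), ← zpow_add, neg_add_cancel,
    zpow_zero, mul_one]

theorem c_sq (m : ℤ) : x * i * F.g ^ m * (x * i * F.g ^ m) = F.g ^ (r + 2 * m) := by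
  rw [(S.cg m).symm.mul_mul_mul_comm, S.hr, ← zpow_add, ← zpow_add]
  congr 1; ring

theorem r_odd (m : ℤ) : F.g ^ (r + 2 * m) * F.g ^ (r + 2 * m) ≠ 1 := fun h => by
  rw [S.hrj, show 2 * j0 + 1 + 2 * m = 2 * (j0 + m) + 1 by ring] at h
  rcases F.sq_one h with h' | h'
  exacts [F.odd_ne_one _ h', F.odd_ne_z _ h']

theorem xig (l : ℤ) : x * (i * F.g ^ l) * x⁻¹ = i * F.g ^ (s - l) := by
  rw [← conj_mul, S.hs, S.xgz, mul_assoc, ← zpow_add, sub_eq_add_neg]

theorem cig (l : ℤ) : x * i * (i * F.g ^ l) * (x * i)⁻¹ = i * F.g ^ (s + l) := by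
  rw [show x * i * (i * F.g ^ l) * (x * i)⁻¹ = x * (i * (i * F.g ^ l) * i⁻¹) * x⁻¹ by group,
    ← mul_assoc i i, F.hii, one_mul, F.i_inv, F.g_i, S.xig, sub_neg_eq_add]

theorem i_ne : i ≠ 1 := fun h => F.hne (by rw [h, cj_one F.tt])

theorem forms : ∀ p ∈ P, ∃ m : ℤ,
    p = F.g ^ m ∨ p = i * F.g ^ m ∨ p = x * F.g ^ m ∨ p = x * i * F.g ^ m := by
  have ht := F.tt
  haveI := F.B.cfg.normal
  set z := x * x with hz
  have hzz : z * z = 1 := F.B.zz
  have hzc : ∀ p ∈ P, Commute z p := fun p hp => F.B.z_central hp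
  set q : ℤ := ((orderOf F.g / 4 : ℕ) : ℤ)
  have hz2q : F.g ^ (2 * q) = z := F.z_eq
  have hrodd := S.r_odd
  have hxsq := S.x_sq
  have hcsq := S.c_sq
  have hxig := S.xig
  have hcig := S.cig
  have hgig := F.gconj
  have hs0 := S.hs0
  have hi1 := S.i_ne
  -- the group `⟨i, x⟩`
  have hxD : ∀ d ∈ F.D, x * d * x⁻¹ ∈ F.D := F.x_norm
  set E0 := ext F.D x (by rw [← hz, ← hz2q]; exact F.mem_g _) hxD with hE0
  have hzi : x⁻¹ = x * z := by
    rw [hz, ← mul_assoc, inv_eq_iff_mul_eq_one]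
    have := F.B.x_pow
    rw [← this]; simp only [pow_succ, pow_zero, one_mul, mul_assoc]
  have hforms : ∀ p ∈ E0, ∃ m : ℤ,
      p = F.g ^ m ∨ p = i * F.g ^ m ∨ p = x * F.g ^ m ∨ p = x * i * F.g ^ m := by
    intro p hp
    rcases hp with ⟨m, h | h⟩ | ⟨m, h | h⟩
    · exact ⟨m, Or.inl h⟩
    · exact ⟨m, Or.inr (Or.inl h)⟩
    · refine ⟨2 * q + m, Or.inr (Or.inr (Or.inl ?_))⟩
      rw [zpow_add, hz2q, ← mul_assoc, ← hzi, ← h, inv_mul_cancel_left]
    · refine ⟨2 * q + m, Or.inr (Or.inr (Or.inr ?_))⟩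
      rw [zpow_add, hz2q, mul_assoc x i, ← mul_assoc i z, ← (hzc i F.hi).eq, mul_assoc z i,
        ← mul_assoc x z, ← hzi, ← h, inv_mul_cancel_left]
  have hxE : x ∈ E0 := Or.inr ⟨2 * q, Or.inl hz2q.symm⟩
  have hiE : i ∈ E0 := Or.inl ⟨0, Or.inr (by rw [zpow_zero, mul_one])⟩
  have hgE : ∀ m : ℤ, F.g ^ m ∈ E0 := fun m => Or.inl (F.mem_g m)
  have hE0P : E0 ≤ P := by
    intro p hp
    obtain ⟨m, rfl | rfl | rfl | rfl⟩ := hforms p hp
    exacts [zpow_mem F.g_mem m, mul_mem F.hi (zpow_mem F.g_mem m),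
      mul_mem F.B.hx (zpow_mem F.g_mem m), mul_mem (mul_mem F.B.hx F.hi) (zpow_mem F.g_mem m)]
  have hE0inv : ∀ w ∈ E0, cj t w ∈ E0 := by
    intro w hw
    obtain ⟨m, rfl | rfl | rfl | rfl⟩ := hforms w hw
    · rw [F.cj_gz]; exact hgE _
    · rw [F.cj_igz]; exact mul_mem hiE (hgE _)
    · rw [cj_mul ht, F.B.hxt, F.cj_gz]; exact mul_mem hxE (hgE _)
    · rw [mul_assoc, cj_mul ht, F.B.hxt, F.cj_igz]; exact mul_mem hxE (mul_mem hiE (hgE _))
  have hinvol : ∀ p ∈ E0, p * p = 1 → p ≠ 1 → p ≠ z → ∃ m : ℤ, p = i * F.g ^ m := by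
    intro p hp h1 h2 h3
    obtain ⟨m, rfl | rfl | rfl | rfl⟩ := hforms p hp
    · rcases F.sq_one h1 with h | h
      exacts [absurd h h2, absurd h h3]
    · exact ⟨m, rfl⟩
    · rw [hxsq] at h1; exact absurd h1 F.B.z_ne
    · rw [hcsq] at h1; exact absurd (by rw [h1, one_mul]) (hrodd m)
  -- `⟨i, x⟩ = P`
  have hPeq : E0 = P := by
    set E : Subgroup G := P ⊓ normalizer (E0 : Set G) with hE
    have hEinv : ∀ p ∈ E, cj t p ∈ E := fun p hp =>
      ⟨F.B.inv p hp.1, cj_mem_normalizer ht hE0inv hp.2⟩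
    have heq : E0 = E := by
      refine eq_of_lift ht (F.B.two.to_le inf_le_left) (le_inf hE0P le_normalizer) hEinv hE0inv
        (fun p hp hc => ?_) ?_
      · rcases F.B.fix_mem hp.1 hc with rfl | rfl | rfl | rfl
        exacts [one_mem _, hxE, mul_mem hxE hxE, inv_mem hxE]
      · intro p hp d hd hdd hcp
        have conjmem : ∀ w ∈ E0, p * w * p⁻¹ ∈ E0 := fun w hw => (mem_normalizer_iff.1 hp.2 w).1 hw
        have hrefl : ∀ m : ℤ, ∃ l : ℤ, p * (i * F.g ^ m) * p⁻¹ = i * F.g ^ l := by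
          intro m
          refine hinvol _ (conjmem _ (mul_mem hiE (hgE m)))
            (by rw [conj_mul, F.ig_sq, mul_one, mul_inv_cancel]) (fun h => ?_) (fun h => ?_)
          · have h2 := conj_eq_one_iff.1 h
            have hc := F.cj_igz m
            rw [h2, cj_one ht] at hc
            have h3 : F.g ^ (1 - m) = F.g ^ m := by
              rw [← h2] at hc; exact (mul_left_cancel hc).symm
            refine F.odd_ne_one (-m) ?_
            rw [show 2 * -m + 1 = (1 - m) - m by ring, zpow_sub, h3, mul_inv_cancel]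
          · have h2 : i * F.g ^ m = z := by
              have h' : p * (i * F.g ^ m) * p⁻¹ = p * z * p⁻¹ := by
                rw [h, (hzc p hp.1).symm.eq, mul_inv_cancel_right]
              exact mul_left_cancel (mul_right_cancel h')
            have hc := F.cj_igz m
            rw [h2, F.B.cj_z] at hc
            have h3 : F.g ^ m = F.g ^ (1 - m) := mul_left_cancel (h2.trans hc)
            refine F.odd_ne_one (-m) ?_
            rw [show 2 * -m + 1 = (1 - m) - m by ring, zpow_sub, ← h3, mul_inv_cancel]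
        have hkill : ∀ j : ℤ, d * (i * F.g) * d⁻¹ = i * F.g ^ (2 * j) → False := by
          intro j hj
          obtain ⟨m, hm⟩ := hrefl 0
          obtain ⟨l, hl⟩ := hrefl 1
          rw [zpow_zero, mul_one] at hm
          rw [zpow_one] at hl
          have hgc : p * F.g * p⁻¹ = F.g ^ (l - m) := by
            calc p * F.g * p⁻¹ = p * i * p⁻¹ * (p * (i * F.g) * p⁻¹) := by
                  rw [conj_mul, ← mul_assoc i i, F.hii, one_mul]
              _ = i * F.g ^ m * (i * F.g ^ l) := by rw [hm, hl]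
              _ = F.g ^ (l - m) := by
                  rw [mul_assoc, ← mul_assoc (F.g ^ m), F.g_i, mul_assoc i, ← mul_assoc i i, F.hii,
                    one_mul, ← zpow_add]
                  congr 1; ring
          have h1 : cj t (p * i * p⁻¹) = p * (d * (i * F.g) * d⁻¹) * p⁻¹ := by
            rw [cj_mul ht, cj_mul ht, cj_inv ht, hcp, F.cj_i]; group
          rw [hm, F.cj_igz, hj, ← conj_mul, hm, ← conj_zpow, hgc, ← zpow_mul, mul_assoc,
            ← zpow_add, mul_right_inj] at h1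
          refine F.odd_ne_one (-m - (l - m) * j) ?_
          rw [show 2 * (-m - (l - m) * j) + 1 = (1 - m) - (m + (l - m) * (2 * j)) by ring, zpow_sub,
            h1, mul_inv_cancel]
        obtain ⟨m, rfl | rfl | rfl | rfl⟩ := hforms d hd
        · obtain ⟨e', he', he''⟩ := F.sol_g m
          exact ⟨e', Or.inl he', he''⟩
        · exact absurd hdd (F.ig_not_inverted m)
        · refine (hkill (s0 + m) ?_).elim
          rw [show x * F.g ^ m * (i * F.g) * (x * F.g ^ m)⁻¹ =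
            x * (F.g ^ m * (i * F.g) * (F.g ^ m)⁻¹) * x⁻¹ by group,
            show i * F.g = i * F.g ^ (1 : ℤ) by rw [zpow_one], hgig, hxig, hs0]
          congr 2; ring
        · refine (hkill (s0 + 1 - m) ?_).elim
          rw [show x * i * F.g ^ m * (i * F.g) * (x * i * F.g ^ m)⁻¹ =
            x * i * (F.g ^ m * (i * F.g) * (F.g ^ m)⁻¹) * (x * i)⁻¹ by group,
            show i * F.g = i * F.g ^ (1 : ℤ) by rw [zpow_one], hgig, hcig, hs0]
          congr 2; ring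
    by_contra hne
    haveI : Group.IsNilpotent P := F.B.two.isNilpotent
    obtain ⟨⟨p, hpP⟩, hpN, hpD⟩ := SetLike.exists_of_lt
      (Group.normalizerCondition_of_isNilpotent (E0.subgroupOf P) (lt_top_iff_ne_top.2 fun h =>
        hne (le_antisymm hE0P (subgroupOf_eq_top.1 h))))
    refine hpD ?_
    show p ∈ E0
    rw [heq]
    refine ⟨hpP, mem_normalizer_iff.2 fun d => ⟨fun hd => ?_, fun hd => ?_⟩⟩
    · exact (mem_normalizer_iff.1 hpN ⟨d, hE0P hd⟩).1 hd
    · have hdP : d ∈ P := by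
        have := mul_mem (mul_mem (inv_mem hpP) (hE0P hd)) hpP
        rwa [show p⁻¹ * (p * d * p⁻¹) * p = d by group] at this
      exact (mem_normalizer_iff.1 hpN ⟨d, hdP⟩).2 hd
  exact fun p hp => hforms p (hPeq.symm ▸ hp)

theorem invol {p : G} (hp : p ∈ P) (h1 : p * p = 1) (h2 : p ≠ 1) (h3 : p ≠ x * x) :
    ∃ m : ℤ, p = i * F.g ^ m := by
  obtain ⟨m, rfl | rfl | rfl | rfl⟩ := S.forms p hp
  · rcases F.sq_one h1 with h | h
    exacts [absurd h h2, absurd h h3]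
  · exact ⟨m, rfl⟩
  · rw [S.x_sq] at h1; exact absurd h1 F.B.z_ne
  · rw [S.c_sq] at h1; exact absurd (by rw [h1, one_mul]) (S.r_odd m)

theorem gC (m : ℤ) : F.g ^ m ∈ zpowers (x * i) := by
  refine zpow_mem (show F.g ∈ zpowers (x * i) from ⟨2 * r, ?_⟩) m
  show (x * i) ^ (2 * r) = F.g
  rw [zpow_mul, zpow_two, S.hr, ← zpow_mul, S.hrr]

theorem cForms : ∀ w ∈ zpowers (x * i), ∃ m : ℤ, w = F.g ^ m ∨ w = x * i * F.g ^ m := by
  rintro w ⟨n, rfl⟩
  rcases Int.even_or_odd' n with ⟨k, rfl | rfl⟩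
  · exact ⟨r * k, Or.inl (by
      show (x * i) ^ (2 * k) = _; rw [zpow_mul, zpow_two, S.hr, ← zpow_mul])⟩
  · exact ⟨r * k, Or.inr (by
      show (x * i) ^ (2 * k + 1) = _
      rw [add_comm, zpow_one_add, zpow_mul, zpow_two, S.hr, ← zpow_mul])⟩

theorem cInv {w : G} (hw : w ∈ zpowers (x * i)) (h1 : w * w = 1) (h2 : w ≠ 1) : w = x * x := by
  obtain ⟨m, rfl | rfl⟩ := S.cForms w hw
  · exact (F.sq_one h1).resolve_left h2
  · rw [S.c_sq] at h1; exact absurd (by rw [h1, one_mul]) (S.r_odd m)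

theorem c_mem : x * i ∈ P := mul_mem F.B.hx F.hi

theorem cover : ∀ p ∈ P, p ∈ zpowers (x * i) ∨ i * p ∈ zpowers (x * i) := by
  intro p hp
  obtain ⟨m, rfl | rfl | rfl | rfl⟩ := S.forms p hp
  · exact Or.inl (S.gC m)
  · exact Or.inr (by rw [← mul_assoc, F.hii, one_mul]; exact S.gC m)
  · exact Or.inr (by
      rw [← mul_assoc, S.ix, mul_assoc, ← zpow_add]; exact mul_mem (mem_zpowers _) (S.gC _))
  · exact Or.inl (mul_mem (mem_zpowers _) (S.gC m))

theorem c_index : (zpowers (x * i)).relIndex P = 2 :=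
  relIndex_two F.hi (fun h => F.hiz (S.cInv h F.hii S.i_ne)) S.cover

theorem c_conj {p w : G} (hp : p ∈ P) (hw : w ∈ zpowers (x * i)) : p * w * p⁻¹ ∈ zpowers (x * i) := by
  have hC0P : zpowers (x * i) ≤ P := zpowers_le.2 S.c_mem
  exact (Subgroup.normal_of_index_eq_two S.c_index).conj_mem ⟨w, hC0P hw⟩ hw ⟨p, hp⟩

theorem fused_z : Fused A (x * x) i := by
  by_contra hno
  refine F.B.transfer_contra (zpowers_le.2 S.c_mem) S.c_index F.hi F.hii fun n hn hmem => hno ?_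
  refine Fused.symm ⟨n, hn, S.cInv hmem ?_ fun h => S.i_ne (conj_eq_one_iff.1 h)⟩
  rw [conj_mul, F.hii, mul_one, mul_inv_cancel]

theorem fused_x : ∃ n ∈ A, ∃ m : ℤ, n * x * n⁻¹ = F.g ^ m := by
  have ht := F.tt
  haveI := F.B.cfg.normal
  set z := x * x with hz
  have hzz : z * z = 1 := F.B.zz
  have hzc : ∀ p ∈ P, Commute z p := fun p hp => F.B.z_central hp
  set q : ℤ := ((orderOf F.g / 4 : ℕ) : ℤ)
  have hz2q : F.g ^ (2 * q) = z := F.z_eq
  -- `x` is fused into the dihedral group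
  obtain ⟨n, hn, hnD⟩ : ∃ n ∈ A, n * x * n⁻¹ ∈ F.D := by
    by_contra hno
    push Not at hno
    refine F.B.transfer_contra_four F.D_le (relIndex_two F.B.hx F.x_notMem fun p hp => ?_) F.B.hx
      F.B.x_pow hno fun n hn hmem => ?_
    · have hzD : z ∈ F.D := hz2q ▸ F.mem_g _
      obtain ⟨m, rfl | rfl | rfl | rfl⟩ := S.forms p hp
      · exact Or.inl (F.mem_g m)
      · exact Or.inl (F.mem_ig m)
      · exact Or.inr (by rw [← mul_assoc]; exact mul_mem hzD (F.mem_g m))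
      · exact Or.inr (by
          rw [show x * (x * i * F.g ^ m) = x * x * (i * F.g ^ m) by group]
          exact mul_mem hzD (F.mem_ig m))
    · rcases eq_or_ne (n * (x * x) * n⁻¹) z with h | h
      · rw [h, ← hz2q]; exact F.mem_g _
      · obtain ⟨m, hm⟩ := S.invol hmem
          (by rw [conj_mul, F.B.zz, mul_one, mul_inv_cancel])
          (fun h => F.B.z_ne (conj_eq_one_iff.1 h)) h
        rw [hm]; exact F.mem_ig m
  obtain ⟨m0, hm0⟩ : ∃ m : ℤ, n * x * n⁻¹ = F.g ^ m := by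
    obtain ⟨m, h | h⟩ := hnD
    · exact ⟨m, h⟩
    · exfalso
      have h2 := F.ig_sq m
      rw [← h, conj_mul, conj_eq_one_iff] at h2
      exact F.B.z_ne h2
  exact ⟨n, hn, m0, hm0⟩

end Semi

end Frame

end CfsgLib.InvolFixFour
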