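import Cfsg.Agent.InvolFixFour.Isolated
import Cfsg.Agent.InvolFixFour.Homocyclic
import Cfsg.Agent.InvolFixFour.Alpha
import Cfsg.Agent.InvolFixFour.Beta

/-!
All involutions of `P` are moved by `z`; conclusion: `z` is the only involution.
-/

set_option autoImplicit false
set_option linter.unusedSectionVars false
set_option linter.style.haveILetI false

namespace CfsgLib.InvolFixFour

open Subgroup

variable {G : Type*} [Group G] [Finite G] {A : Subgroup G} {t : G}

namespace Pair

variable {P : Subgroup G} {x u : G} (F : Pair A t P x u)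
include F

theorem false_of_fused (hzu : Fused A (x * x) u) : False := by
  obtain ⟨S, hS⟩ := F.B.exists_sylow
  obtain ⟨e⟩ := F.exists_mulEquiv hzu
  exact F.B.semis.false_of_homocyclic S
    ⟨((MulEquiv.subgroupCongr hS).trans (subgroupOfEquivOfLe F.B.le)).trans e⟩

theorem false_of_pair : False := by
  by_cases h : Fused A (x * x) u
  exacts [F.false_of_fused h, F.false_of_not_fused h]

end Pair

namespace Base

variable {P : Subgroup G} {x : G} (B : Base A t P x)
include B

/-- Every involution other than `z` is multiplied by `z` under `t`. -/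
def MovesAll (_B : Base A t P x) : Prop :=
  ∀ p ∈ P, p * p = 1 → p ≠ 1 → p ≠ x * x → cj t p = p * (x * x)

variable (hT : B.MovesAll)
include hT

theorem comm_invol {p q : G} (hp : p ∈ P) (hpp : p * p = 1) (hp1 : p ≠ 1) (hpz : p ≠ x * x)
    (hq : q ∈ P) (hqq : q * q = 1) (hq1 : q ≠ 1) (hqz : q ≠ x * x) (hc : Commute p q) :
    q = p ∨ q = x * x * p := by
  have hcpq : cj t (p * q) = p * q := by
    rw [cj_mul B.tt, hT p hp hpp hp1 hpz, hT q hq hqq hq1 hqz,
      (B.z_central hq).mul_mul_mul_comm p (x * x), B.zz, mul_one]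
  have hsq : p * q * (p * q) = 1 := by rw [hc.symm.mul_mul_mul_comm, hpp, hqq, one_mul]
  rcases B.invol_fix (mul_mem hp hq) hcpq hsq with h | h
  · left; rw [eq_inv_of_mul_eq_one_right h]; exact inv_eq_of_mul_eq_one_right hpp
  · right; rw [← h, hc.eq, mul_assoc, hpp, mul_one]

theorem noncomm_invol {p q : G} (hp : p ∈ P) (hpp : p * p = 1) (hp1 : p ≠ 1) (hpz : p ≠ x * x)
    (hq : q ∈ P) (hqq : q * q = 1) (hq1 : q ≠ 1) (hqz : q ≠ x * x) (hc : ¬ Commute p q) :
    p * q = x ∨ p * q = x⁻¹ := by
  have hcpq : cj t (p * q) = p * q := by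
    rw [cj_mul B.tt, hT p hp hpp hp1 hpz, hT q hq hqq hq1 hqz,
      (B.z_central hq).mul_mul_mul_comm p (x * x), B.zz, mul_one]
  have hne : p * q * (p * q) ≠ 1 := fun h => hc (by
    show p * q = q * p
    rw [eq_inv_of_mul_eq_one_left h, mul_inv_rev, inv_eq_of_mul_eq_one_right hpp,
      inv_eq_of_mul_eq_one_right hqq])
  rcases B.fix_mem (mul_mem hp hq) hcpq with h | h | h | h
  · exact absurd (by rw [h, one_mul]) hne
  · exact Or.inl h
  · exact absurd (by rw [h, B.zz]) hne
  · exact Or.inr h

theorem false_of_moves {u : G} (hu : u ∈ P) (huu : u * u = 1) (hu1 : u ≠ 1) (huz : u ≠ x * x)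
    (hxu : ¬ Commute x u) : False := by
  have ht := B.tt
  set z := x * x with hz
  have hcu := hT u hu huu hu1 huz
  have hui : u⁻¹ = u := inv_eq_of_mul_eq_one_right huu
  set q := x * u * x⁻¹ with hq
  have hqP : q ∈ P := mul_mem (mul_mem B.hx hu) (inv_mem B.hx)
  have hqq : q * q = 1 := by rw [hq, conj_mul, huu, mul_one, mul_inv_cancel]
  have hq1 : q ≠ 1 := fun h => hu1 (conj_eq_one_iff.1 h)
  have hqz : q ≠ z := fun h => huz (by
    have h' : u = x⁻¹ * q * x := by rw [hq]; group
    rw [h', h, hz]; group)
  have hconj : x * u * x⁻¹ = u * z := by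
    by_cases hc : Commute u q
    · rcases B.comm_invol hT hu huu hu1 huz hqP hqq hq1 hqz hc with h | h
      · exact absurd (mul_inv_eq_iff_eq_mul.1 h) hxu
      · exact h.trans (B.z_central hu).eq
    · exfalso
      rcases B.noncomm_invol hT hu huu hu1 huz hqP hqq hq1 hqz hc with h | h
      · -- `u x u = x²`
        have h1 : u * x * u = z := by
          have h2 := congrArg (· * x) h
          simpa [hq, hz, mul_assoc] using h2
        have h3 : x * x = 1 := by
          have h4 : u * (u * x * u) * u = x := by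
            rw [← mul_assoc, ← mul_assoc, huu, one_mul, mul_assoc, huu, mul_one]
          rw [h1, (B.z_central hu).symm.eq, mul_assoc, huu, mul_one] at h4
          have h5 := B.zz
          rw [← hz] at h5
          rw [← h4]; exact h5
        exact B.z_ne h3
      · have h2 := congrArg (· * x) h
        have h1 : u * x * u = 1 := by simpa [hq, mul_assoc] using h2
        refine B.z_ne ?_
        have h4 : x = 1 := by
          have : u * (u * x * u) * u = x := by
            rw [← mul_assoc, ← mul_assoc, huu, one_mul, mul_assoc, huu, mul_one]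
          rw [h1, mul_one, huu] at this
          exact this.symm
        rw [h4, one_mul]
  have hux : u * x * u⁻¹ = x⁻¹ := by
    have h1 : x * u = u * z * x := mul_inv_eq_iff_eq_mul.1 hconj
    calc u * x * u⁻¹ = u * (x * u) := by rw [hui, mul_assoc]
      _ = z * x := by rw [h1, ← mul_assoc, ← mul_assoc, huu, one_mul]
      _ = x⁻¹ := eq_inv_of_mul_eq_one_left (by rw [mul_assoc]; exact B.zz)
  have hn : ∀ w ∈ zpowers x, u * w * u⁻¹ ∈ zpowers x := by
    rintro _ ⟨k, rfl⟩
    show u * x ^ k * u⁻¹ ∈ _
    rw [← conj_zpow, hux]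
    exact zpow_mem (inv_mem (mem_zpowers x)) k
  have hcx : ∀ w ∈ zpowers x, cj t w = w := by
    rintro _ ⟨k, rfl⟩
    show cj t (x ^ k) = x ^ k
    rw [cj_zpow ht, B.hxt]
  have huw : ∀ w ∈ zpowers x, u * w * u = w⁻¹ := by
    rintro _ ⟨k, rfl⟩
    show u * x ^ k * u = (x ^ k)⁻¹
    conv_lhs => arg 2; rw [← hui]
    rw [← conj_zpow, hux, inv_zpow]
  set R := ext (zpowers x) u (by rw [huu]; exact one_mem _) hn with hR
  have hRP : R ≤ P := by
    rintro p (hp | hp)
    · exact zpowers_le.2 B.hx hp
    · have := mul_mem hu (zpowers_le.2 B.hx hp)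
      rwa [← mul_assoc, huu, one_mul] at this
  have hPR : R = P := by
    refine eq_of_lift ht B.two hRP B.inv ?_ (fun q hq hc => ?_) ?_
    · rintro p (hp | hp)
      · exact Or.inl (by rw [hcx p hp]; exact hp)
      · refine Or.inr ?_
        have h1 : cj t p = z * p := by
          have h2 := hcx _ hp
          rw [cj_mul ht, hcu, mul_assoc] at h2
          have h3 : z * cj t p = p := mul_left_cancel h2
          calc cj t p = z * (z * cj t p) := by rw [← mul_assoc, B.zz, one_mul]
            _ = z * p := by rw [h3]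
        rw [h1, ← mul_assoc, ← (B.z_central hu).eq, mul_assoc]
        exact mul_mem (mul_mem (mem_zpowers x) (mem_zpowers x)) hp
    · rcases B.fix_mem hq hc with h | h | h | h <;> rw [h] <;> refine Or.inl ?_
      exacts [one_mem _, mem_zpowers x, mul_mem (mem_zpowers x) (mem_zpowers x),
        inv_mem (mem_zpowers x)]
    · intro _ _ d hd hdd _
      rcases hd with hd | hd
      · have hd2 : d * d = 1 := by rwa [hcx d hd] at hdd
        rcases B.invol_fix (hRP (Or.inl hd)) (hcx d hd) hd2 with h | h
        · exact ⟨1, one_mem _, by rw [h, cj_one ht, one_mul]⟩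
        · refine ⟨u, Or.inr (by rw [huu]; exact one_mem _), ?_⟩
          rw [h]; exact hcu
      · exfalso
        set w := u * d with hw
        have hd' : d = u * w := by rw [hw, ← mul_assoc, huu, one_mul]
        rw [hd', cj_mul ht, hcu, hcx w hd, mul_assoc, ← (B.z_central hu).eq, mul_assoc,
          ← mul_assoc w u w] at hdd
        have h2 : u * (w * u * w) = 1 := by
          have := huw w hd
          rw [show u * (w * u * w) = u * w * u * w by group, this, inv_mul_cancel]
        rw [h2, mul_one] at hdd
        exact B.z_ne hdd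
  have hu_not : u ∉ zpowers x := fun h => B.z_ne (left_eq_mul.1 ((hcx u h).symm.trans hcu))
  have hzu : Fused A z u := by
    by_contra hnf
    refine B.transfer_contra (zpowers_le.2 B.hx) (relIndex_two hu hu_not ?_) hu huu fun n hn hmem => ?_
    · intro p hp
      rw [← hPR] at hp
      exact hp
    · rcases B.invol_fix (zpowers_le.2 B.hx hmem) (hcx _ hmem)
        (by rw [conj_mul, huu, mul_one, mul_inv_cancel]) with h | h
      · exact hu1 (conj_eq_one_iff.1 h)
      · exact hnf (Fused.symm ⟨n, hn, h⟩)
  refine B.false_of_moved hu huu hcu hconj hzu fun a ha haa ha1 haz b hb hab => ?_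
  have hb2 : b * b = 1 := by
    rw [← hPR] at ha hb
    rcases ha with ha | ha
    · exfalso
      rcases B.invol_fix (zpowers_le.2 B.hx ha) (hcx a ha) haa with h | h
      exacts [ha1 h, haz h]
    rcases hb with hb | hb
    · obtain ⟨i, hi⟩ := mem_zpowers_iff.1 ha
      obtain ⟨j, hj⟩ := mem_zpowers_iff.1 hb
      have hbw : Commute b (u * a) := by
        rw [← hi, ← hj]; exact (Commute.refl x).zpow_zpow j i
      have hbu : Commute b u := by
        have := hbw.mul_right hab.symm.inv_right
        rwa [mul_inv_cancel_right] at this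
      have h := huw b hb
      rw [← hbu.eq, mul_assoc, huu, mul_one] at h
      exact mul_eq_one_iff_eq_inv.2 h
    · have h := huw _ hb
      rw [← mul_assoc u u b, huu, one_mul] at h
      have h2 : b * u * (u * b) = 1 := by rw [h, inv_mul_cancel]
      rwa [mul_assoc b u (u * b), ← mul_assoc u u b, huu, one_mul] at h2
  by_cases hb1 : b = 1
  · exact Or.inl hb1
  by_cases hbz : b = z
  · exact Or.inr (Or.inl hbz)
  rcases B.comm_invol hT ha haa ha1 haz hb hb2 hb1 hbz hab with h | h
  exacts [Or.inr (Or.inr (Or.inl h)), Or.inr (Or.inr (Or.inr h))]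

theorem false_of_type_one {u : G} (hu : u ∈ P) (huu : u * u = 1) (hu1 : u ≠ 1)
    (huz : u ≠ x * x) : False := by
  by_cases hall : ∀ q ∈ P, q * q = 1 → Commute x q
  · refine Pair.false_of_pair (u := u) ⟨B, hu, huu, hT u hu huu hu1 huz, hall u hu huu,
      fun q hq hqq => ?_⟩
    by_cases hq1 : q = 1
    · exact Or.inl hq1
    by_cases hqz : q = x * x
    · exact Or.inr (Or.inl hqz)
    by_cases hc : Commute u q
    · rcases B.comm_invol hT hu huu hu1 huz hq hqq hq1 hqz hc with h | h
      exacts [Or.inr (Or.inr (Or.inl h)), Or.inr (Or.inr (Or.inr h))]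
    · exfalso
      refine hc ?_
      have key : ∀ y : G, (y = x ∨ y = x⁻¹) → u * q = y → Commute u q := by
        intro y hy h
        have hcy : Commute u y := by
          rcases hy with rfl | rfl
          exacts [(hall u hu huu).symm, (hall u hu huu).symm.inv_right]
        have hq' : q = u * y := by rw [← h, ← mul_assoc, huu, one_mul]
        rw [hq']
        exact (Commute.refl u).mul_right hcy
      rcases B.noncomm_invol hT hu huu hu1 huz hq hqq hq1 hqz hc with h | h
      exacts [key x (Or.inl rfl) h, key x⁻¹ (Or.inr rfl) h]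
  · push Not at hall
    obtain ⟨q, hq, hqq, hxq⟩ := hall
    refine B.false_of_moves hT hq hqq ?_ ?_ hxq
    · rintro rfl; exact hxq (Commute.one_right x)
    · rintro rfl; exact hxq ((Commute.refl x).mul_right (Commute.refl x))

end Base

/-- `z` is the only involution of `P`. -/
theorem Base.false_of_invol {P : Subgroup G} {x : G} (B : Base A t P x) {i : G} (hi : i ∈ P)
    (hii : i * i = 1) (hi1 : i ≠ 1) (hiz : i ≠ x * x) : False := by
  by_cases hT : B.MovesAll
  · exact B.false_of_type_one hT hi hii hi1 hiz
  · rw [Base.MovesAll] at hT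
    push Not at hT
    obtain ⟨p, hp, hpp, hp1, hpz, hcp⟩ := hT
    have hne : cj t p ≠ p := fun h => by
      rcases B.invol_fix hp h hpp with h1 | h1
      exacts [hp1 h1, hpz h1]
    have F : Frame A t P x p := ⟨B, hp, hpp, hpz, hne, hcp⟩
    obtain ⟨e, he, ⟨h1, h2⟩ | ⟨h1, h2⟩⟩ := F.x_action
    exacts [F.alpha he h1 h2, F.beta he h1 h2]

end CfsgLib.InvolFixFour
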